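import Cfsg.Agent.H39.Emb

/-! Embeddings `E₆, E₇ ⊆ E₈` and the graph symmetries of `E₆`, `D₄`. -/

set_option autoImplicit false

namespace Cfsg.Agent.H39

open Cfsg.Lie H37

/-- root table -/
def embPE6E8 : ℕ := 0xccc2bcb9b8b2afaeabaaa9a6a5a4a3a29c9998959493908f8e8d8a8988878483827f7e7b7471706d6c6b686766656261605f5c5b5a5756534d4c4b4a4946454441403d3736332d23
/-- inverse root table -/
def embQE6E8 : ℕ := 0x4700000000000000000046000000000045000044430000000000420000414000003f3e3d00003c3b3a3938000000000037000036350000343332000031302f2e00002d2c2b2a00002928270000262500002400000000000023000022210000201f1e00001d1c1b1a00001918171600001514130000121100001000000000000f0e0d0c0b00000a09080000070600000500000000000403000002000000000001000000000000000000000000000000000000000000000000000000000000000000000000000000000000000000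
/-- sign table -/
def embEE6E8 : ℕ := 0x0

theorem embOKE6E8_0 : allLT 72 (fun r => embAt chevE6 chevE8 embPE6E8 embQE6E8 embEE6E8 (0 + r)) = true := by
  decide +kernel

theorem embE6E8 [Chev chevE6] [Chev chevE8] : Emb chevE6 chevE8 (embφ embPE6E8) (embε embEE6E8) := by
  refine emb_of_check (Q := embQE6E8) fun r hr => ?_
  change r < 72 at hr
  have := (allLT_iff _ _).1 embOKE6E8_0 (r - 0) (by omega)
  rwa [show 0 + (r - 0) = r by omega] at this

/-- root table -/
def embPE7E8 : ℕ := 0xe2dbd6d2cfcdccc8c5c3c2bfbdbcbab9b8b5b3b2b0afaeacabaaa9a7a6a5a4a3a29f9d9c9a99989695949391908f8e8d8b8a89888785848382807f7e7c7b7976747371706f6d6c6b6a68676665646261605f5e5c5b5a595756555352504d4c4b4a49484645444341403f3d3c3a3736353332302d2c2a272322201d19140d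
/-- inverse root table -/
def embQE7E8 : ℕ := 0x7d0000000000007c000000007b0000007a00007900787700000076000075007473000072007170006f6e6d00006c006b6a006968670066656463006261605f5e5d00005c005b5a005958570056555453005251504f4e004d4c4b4a49004847464500444342004140003f00003e003d3c003b3a390038373635003433323130002f2e2d2c2b002a2928270026252400232200210000201f1e1d1c1b001a1918170016151400131200110000100f0e000d0c000b00000a090008000007000000060500040000030000000200000000010000000000000000000000000000000000000000
/-- sign table -/
def embEE7E8 : ℕ := 0x0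

theorem embOKE7E8_0 : allLT 63 (fun r => embAt chevE7 chevE8 embPE7E8 embQE7E8 embEE7E8 (0 + r)) = true := by
  decide +kernel

theorem embOKE7E8_1 : allLT 63 (fun r => embAt chevE7 chevE8 embPE7E8 embQE7E8 embEE7E8 (63 + r)) = true := by
  decide +kernel

theorem embE7E8 [Chev chevE7] [Chev chevE8] : Emb chevE7 chevE8 (embφ embPE7E8) (embε embEE7E8) := by
  refine emb_of_check (Q := embQE7E8) fun r hr => ?_
  change r < 126 at hr
  by_cases h0 : r < 63
  · have := (allLT_iff _ _).1 embOKE7E8_0 (r - 0) (by omega)
    rwa [show 0 + (r - 0) = r by omega] at this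
  have := (allLT_iff _ _).1 embOKE7E8_1 (r - 63) (by omega)
  rwa [show 63 + (r - 63) = r by omega] at this

/-- root table -/
def embPE6g : ℕ := 0x47464542374441363f34313c2d2926244340353e33303d322f2e3b2c28253a2b27392a380f1d0e201c0d221f1b0c1918150a17140912070423211e1a0b1613081106031005020100
/-- inverse root table -/
def embQE6g : ℕ := 0x47464542374441363f34313c2d2926244340353e33303d322f2e3b2c28253a2b27392a380f1d0e201c0d221f1b0c1918150a17140912070423211e1a0b1613081106031005020100
/-- sign table -/
def embEE6g : ℕ := 0x96ad22942944b5690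

theorem embOKE6g_0 : allLT 72 (fun r => embAt chevE6 chevE6 embPE6g embQE6g embEE6g (0 + r)) = true := by
  decide +kernel

theorem embE6g [Chev chevE6] : Emb chevE6 chevE6 (embφ embPE6g) (embε embEE6g) := by
  refine emb_of_check (Q := embQE6g) fun r hr => ?_
  change r < 72 at hr
  have := (allLT_iff _ _).1 embOKE6g_0 (r - 0) (by omega)
  rwa [show 0 + (r - 0) = r by omega] at this

/-- root table -/
def embPD4g : ℕ := 0x17161115100d140f130e0c12050b090408030a0702060100
/-- inverse root table -/
def embQD4g : ℕ := 0x171614110f0c1513100e120d0a05090704020b0806030100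
/-- sign table -/
def embED4g : ℕ := 0x2a8154

theorem embOKD4g_0 : allLT 24 (fun r => embAt chevD4 chevD4 embPD4g embQD4g embED4g (0 + r)) = true := by
  decide +kernel

theorem embD4g [Chev chevD4] : Emb chevD4 chevD4 (embφ embPD4g) (embε embED4g) := by
  refine emb_of_check (Q := embQD4g) fun r hr => ?_
  change r < 24 at hr
  have := (allLT_iff _ _).1 embOKD4g_0 (r - 0) (by omega)
  rwa [show 0 + (r - 0) = r by omega] at this

/-- root table -/
def embPD4g2 : ℕ := 0x171614110f0c1513100e120d0a05090704020b0806030100
/-- inverse root table -/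
def embQD4g2 : ℕ := 0x17161115100d140f130e0c12050b090408030a0702060100
/-- sign table -/
def embED4g2 : ℕ := 0x1b00d8

theorem embOKD4g2_0 : allLT 24 (fun r => embAt chevD4 chevD4 embPD4g2 embQD4g2 embED4g2 (0 + r)) = true := by
  decide +kernel

theorem embD4g2 [Chev chevD4] : Emb chevD4 chevD4 (embφ embPD4g2) (embε embED4g2) := by
  refine emb_of_check (Q := embQD4g2) fun r hr => ?_
  change r < 24 at hr
  have := (allLT_iff _ _).1 embOKD4g2_0 (r - 0) (by omega)
  rwa [show 0 + (r - 0) = r by omega] at this

end Cfsg.Agent.H39
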