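import Cfsg.Agent.H39.PoinCert
import Cfsg.Agent.H39.ChevRootData

/-!
The Poincaré polynomials of the Weyl groups of the seven tabulated data.
-/

set_option autoImplicit false

namespace Cfsg.Agent.H39

open Cfsg.Lie

theorem memG2 : chevG2 ∈ stdList := by simp [stdList]

/-- Cartan matrix of G2 -/
def cmG2 : List (List ℤ) := [[2, -3], [-1, 2]]

theorem RD_A_G2 (hD : chevG2 ∈ stdList) : ∀ i j : Fin chevG2.rank, (RD hD).A i j = (cmG2.getD i []).getD j 0 := by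
  intro i j; rw [RD_A, (certOK_of_mem hD).cartan_eq i.2 ((certOK_of_mem hD).simple_lt j.2)]
  revert i j; decide +kernel

/-- layers of an orbit -/
def layG2_1 : List (List (List ℤ)) :=
  [[[.ofNat 1, .ofNat 0]],
   [[.negSucc 0, .ofNat 1]]]

theorem layG2_1_ok : stepOK cmG2 chevG2.rank [] 0 layG2_1 = true := by decide +kernel

theorem layG2_1_len : layG2_1.map List.length = [1, 1] := by decide +kernel

/-- layers of an orbit -/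
def layG2_2 : List (List (List ℤ)) :=
  [[[.ofNat 0, .ofNat 1]],
   [[.ofNat 3, .negSucc 0]],
   [[.negSucc 2, .ofNat 2]],
   [[.ofNat 3, .negSucc 1]],
   [[.negSucc 2, .ofNat 1]],
   [[.ofNat 0, .negSucc 0]]]

theorem layG2_2_ok : stepOK cmG2 chevG2.rank [0] 1 layG2_2 = true := by decide +kernel

theorem layG2_2_len : layG2_2.map List.length = [1, 1, 1, 1, 1, 1] := by decide +kernel

theorem poin_G2 (hD : chevG2 ∈ stdList) {S : Type*} [CommSemiring S] (q : S) :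
    (RD hD).poin Set.univ q = qInt q 2 * qInt q 6 := by
  rw [← set_full chevG2.rank [1, 0] (by decide +kernel),
    poin_step (RD hD) cmG2 (RD_A_G2 hD) [0] 1 layG2_2 layG2_2_ok, layG2_2_len,
    poin_step (RD hD) cmG2 (RD_A_G2 hD) [] 0 layG2_1 layG2_1_ok, layG2_1_len,
    set_nil, RootData.poin_empty]
  simp only [polyOf_cons, polyOf_nil, qInt, Finset.sum_range_succ, Finset.sum_range_zero]
  push_cast
  ring

theorem memB2 : chevB2 ∈ stdList := by simp [stdList]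

/-- Cartan matrix of B2 -/
def cmB2 : List (List ℤ) := [[2, -2], [-1, 2]]

theorem RD_A_B2 (hD : chevB2 ∈ stdList) : ∀ i j : Fin chevB2.rank, (RD hD).A i j = (cmB2.getD i []).getD j 0 := by
  intro i j; rw [RD_A, (certOK_of_mem hD).cartan_eq i.2 ((certOK_of_mem hD).simple_lt j.2)]
  revert i j; decide +kernel

/-- layers of an orbit -/
def layB2_1 : List (List (List ℤ)) :=
  [[[.ofNat 1, .ofNat 0]],
   [[.negSucc 0, .ofNat 1]]]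

theorem layB2_1_ok : stepOK cmB2 chevB2.rank [] 0 layB2_1 = true := by decide +kernel

theorem layB2_1_len : layB2_1.map List.length = [1, 1] := by decide +kernel

/-- layers of an orbit -/
def layB2_2 : List (List (List ℤ)) :=
  [[[.ofNat 0, .ofNat 1]],
   [[.ofNat 2, .negSucc 0]],
   [[.negSucc 1, .ofNat 1]],
   [[.ofNat 0, .negSucc 0]]]

theorem layB2_2_ok : stepOK cmB2 chevB2.rank [0] 1 layB2_2 = true := by decide +kernel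

theorem layB2_2_len : layB2_2.map List.length = [1, 1, 1, 1] := by decide +kernel

theorem poin_B2 (hD : chevB2 ∈ stdList) {S : Type*} [CommSemiring S] (q : S) :
    (RD hD).poin Set.univ q = qInt q 2 * qInt q 4 := by
  rw [← set_full chevB2.rank [1, 0] (by decide +kernel),
    poin_step (RD hD) cmB2 (RD_A_B2 hD) [0] 1 layB2_2 layB2_2_ok, layB2_2_len,
    poin_step (RD hD) cmB2 (RD_A_B2 hD) [] 0 layB2_1 layB2_1_ok, layB2_1_len,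
    set_nil, RootData.poin_empty]
  simp only [polyOf_cons, polyOf_nil, qInt, Finset.sum_range_succ, Finset.sum_range_zero]
  push_cast
  ring

theorem memD4 : chevD4 ∈ stdList := by simp [stdList]

/-- Cartan matrix of D4 -/
def cmD4 : List (List ℤ) := [[2, -1, 0, 0], [-1, 2, -1, -1], [0, -1, 2, 0], [0, -1, 0, 2]]

theorem RD_A_D4 (hD : chevD4 ∈ stdList) : ∀ i j : Fin chevD4.rank, (RD hD).A i j = (cmD4.getD i []).getD j 0 := by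
  intro i j; rw [RD_A, (certOK_of_mem hD).cartan_eq i.2 ((certOK_of_mem hD).simple_lt j.2)]
  revert i j; decide +kernel

/-- layers of an orbit -/
def layD4_1 : List (List (List ℤ)) :=
  [[[.ofNat 0, .ofNat 1, .ofNat 0, .ofNat 0]],
   [[.ofNat 1, .negSucc 0, .ofNat 1, .ofNat 1]]]

theorem layD4_1_ok : stepOK cmD4 chevD4.rank [] 1 layD4_1 = true := by decide +kernel

theorem layD4_1_len : layD4_1.map List.length = [1, 1] := by decide +kernel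

/-- layers of an orbit -/
def layD4_2 : List (List (List ℤ)) :=
  [[[.ofNat 1, .ofNat 0, .ofNat 0, .ofNat 0]],
   [[.negSucc 0, .ofNat 1, .ofNat 0, .ofNat 0]],
   [[.ofNat 0, .negSucc 0, .ofNat 1, .ofNat 1]]]

theorem layD4_2_ok : stepOK cmD4 chevD4.rank [1] 0 layD4_2 = true := by decide +kernel

theorem layD4_2_len : layD4_2.map List.length = [1, 1, 1] := by decide +kernel

/-- layers of an orbit -/
def layD4_3 : List (List (List ℤ)) :=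
  [[[.ofNat 0, .ofNat 0, .ofNat 1, .ofNat 0]],
   [[.ofNat 0, .ofNat 1, .negSucc 0, .ofNat 0]],
   [[.ofNat 1, .negSucc 0, .ofNat 0, .ofNat 1]],
   [[.negSucc 0, .ofNat 0, .ofNat 0, .ofNat 1]]]

theorem layD4_3_ok : stepOK cmD4 chevD4.rank [0, 1] 2 layD4_3 = true := by decide +kernel

theorem layD4_3_len : layD4_3.map List.length = [1, 1, 1, 1] := by decide +kernel

/-- layers of an orbit -/
def layD4_4 : List (List (List ℤ)) :=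
  [[[.ofNat 0, .ofNat 0, .ofNat 0, .ofNat 1]],
   [[.ofNat 0, .ofNat 1, .ofNat 0, .negSucc 0]],
   [[.ofNat 1, .negSucc 0, .ofNat 1, .ofNat 0]],
   [[.ofNat 1, .ofNat 0, .negSucc 0, .ofNat 0], [.negSucc 0, .ofNat 0, .ofNat 1, .ofNat 0]],
   [[.negSucc 0, .ofNat 1, .negSucc 0, .ofNat 0]],
   [[.ofNat 0, .negSucc 0, .ofNat 0, .ofNat 1]],
   [[.ofNat 0, .ofNat 0, .ofNat 0, .negSucc 0]]]

theorem layD4_4_ok : stepOK cmD4 chevD4.rank [2, 0, 1] 3 layD4_4 = true := by decide +kernel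

theorem layD4_4_len : layD4_4.map List.length = [1, 1, 1, 2, 1, 1, 1] := by decide +kernel

theorem poin_D4 (hD : chevD4 ∈ stdList) {S : Type*} [CommSemiring S] (q : S) :
    (RD hD).poin Set.univ q = qInt q 2 * qInt q 4 * qInt q 4 * qInt q 6 := by
  rw [← set_full chevD4.rank [3, 2, 0, 1] (by decide +kernel),
    poin_step (RD hD) cmD4 (RD_A_D4 hD) [2, 0, 1] 3 layD4_4 layD4_4_ok, layD4_4_len,
    poin_step (RD hD) cmD4 (RD_A_D4 hD) [0, 1] 2 layD4_3 layD4_3_ok, layD4_3_len,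
    poin_step (RD hD) cmD4 (RD_A_D4 hD) [1] 0 layD4_2 layD4_2_ok, layD4_2_len,
    poin_step (RD hD) cmD4 (RD_A_D4 hD) [] 1 layD4_1 layD4_1_ok, layD4_1_len,
    set_nil, RootData.poin_empty]
  simp only [polyOf_cons, polyOf_nil, qInt, Finset.sum_range_succ, Finset.sum_range_zero]
  push_cast
  ring

theorem memF4 : chevF4 ∈ stdList := by simp [stdList]

/-- Cartan matrix of F4 -/
def cmF4 : List (List ℤ) := [[2, -1, 0, 0], [-1, 2, -2, 0], [0, -1, 2, -1], [0, 0, -1, 2]]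

theorem RD_A_F4 (hD : chevF4 ∈ stdList) : ∀ i j : Fin chevF4.rank, (RD hD).A i j = (cmF4.getD i []).getD j 0 := by
  intro i j; rw [RD_A, (certOK_of_mem hD).cartan_eq i.2 ((certOK_of_mem hD).simple_lt j.2)]
  revert i j; decide +kernel

/-- layers of an orbit -/
def layF4_1 : List (List (List ℤ)) :=
  [[[.ofNat 0, .ofNat 1, .ofNat 0, .ofNat 0]],
   [[.ofNat 1, .negSucc 0, .ofNat 1, .ofNat 0]]]

theorem layF4_1_ok : stepOK cmF4 chevF4.rank [] 1 layF4_1 = true := by decide +kernel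

theorem layF4_1_len : layF4_1.map List.length = [1, 1] := by decide +kernel

/-- layers of an orbit -/
def layF4_2 : List (List (List ℤ)) :=
  [[[.ofNat 0, .ofNat 0, .ofNat 1, .ofNat 0]],
   [[.ofNat 0, .ofNat 2, .negSucc 0, .ofNat 1]],
   [[.ofNat 2, .negSucc 1, .ofNat 1, .ofNat 1]],
   [[.ofNat 2, .ofNat 0, .negSucc 0, .ofNat 2]]]

theorem layF4_2_ok : stepOK cmF4 chevF4.rank [1] 2 layF4_2 = true := by decide +kernel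

theorem layF4_2_len : layF4_2.map List.length = [1, 1, 1, 1] := by decide +kernel

/-- layers of an orbit -/
def layF4_3 : List (List (List ℤ)) :=
  [[[.ofNat 1, .ofNat 0, .ofNat 0, .ofNat 0]],
   [[.negSucc 0, .ofNat 1, .ofNat 0, .ofNat 0]],
   [[.ofNat 0, .negSucc 0, .ofNat 1, .ofNat 0]],
   [[.ofNat 0, .ofNat 1, .negSucc 0, .ofNat 1]],
   [[.ofNat 1, .negSucc 0, .ofNat 0, .ofNat 1]],
   [[.negSucc 0, .ofNat 0, .ofNat 0, .ofNat 1]]]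

theorem layF4_3_ok : stepOK cmF4 chevF4.rank [2, 1] 0 layF4_3 = true := by decide +kernel

theorem layF4_3_len : layF4_3.map List.length = [1, 1, 1, 1, 1, 1] := by decide +kernel

/-- layers of an orbit -/
def layF4_4 : List (List (List ℤ)) :=
  [[[.ofNat 0, .ofNat 0, .ofNat 0, .ofNat 1]],
   [[.ofNat 0, .ofNat 0, .ofNat 1, .negSucc 0]],
   [[.ofNat 0, .ofNat 2, .negSucc 0, .ofNat 0]],
   [[.ofNat 2, .negSucc 1, .ofNat 1, .ofNat 0]],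
   [[.negSucc 1, .ofNat 0, .ofNat 1, .ofNat 0], [.ofNat 2, .ofNat 0, .negSucc 0, .ofNat 1]],
   [[.negSucc 1, .ofNat 2, .negSucc 0, .ofNat 1], [.ofNat 2, .ofNat 0, .ofNat 0, .negSucc 0]],
   [[.negSucc 1, .ofNat 2, .ofNat 0, .negSucc 0], [.ofNat 0, .negSucc 1, .ofNat 1, .ofNat 1]],
   [[.ofNat 0, .negSucc 1, .ofNat 2, .negSucc 0], [.ofNat 0, .ofNat 0, .negSucc 0, .ofNat 2]],
   [[.ofNat 0, .ofNat 2, .negSucc 1, .ofNat 1], [.ofNat 0, .ofNat 0, .ofNat 1, .negSucc 1]],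
   [[.ofNat 0, .ofNat 2, .negSucc 0, .negSucc 0], [.ofNat 2, .negSucc 1, .ofNat 0, .ofNat 1]],
   [[.ofNat 2, .negSucc 1, .ofNat 1, .negSucc 0], [.negSucc 1, .ofNat 0, .ofNat 0, .ofNat 1]],
   [[.negSucc 1, .ofNat 0, .ofNat 1, .negSucc 0], [.ofNat 2, .ofNat 0, .negSucc 0, .ofNat 0]],
   [[.negSucc 1, .ofNat 2, .negSucc 0, .ofNat 0]],
   [[.ofNat 0, .negSucc 1, .ofNat 1, .ofNat 0]],
   [[.ofNat 0, .ofNat 0, .negSucc 0, .ofNat 1]],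
   [[.ofNat 0, .ofNat 0, .ofNat 0, .negSucc 0]]]

theorem layF4_4_ok : stepOK cmF4 chevF4.rank [0, 2, 1] 3 layF4_4 = true := by decide +kernel

theorem layF4_4_len : layF4_4.map List.length = [1, 1, 1, 1, 2, 2, 2, 2, 2, 2, 2, 2, 1, 1, 1, 1] := by decide +kernel

theorem poin_F4 (hD : chevF4 ∈ stdList) {S : Type*} [CommSemiring S] (q : S) :
    (RD hD).poin Set.univ q = qInt q 2 * qInt q 6 * qInt q 8 * qInt q 12 := by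
  rw [← set_full chevF4.rank [3, 0, 2, 1] (by decide +kernel),
    poin_step (RD hD) cmF4 (RD_A_F4 hD) [0, 2, 1] 3 layF4_4 layF4_4_ok, layF4_4_len,
    poin_step (RD hD) cmF4 (RD_A_F4 hD) [2, 1] 0 layF4_3 layF4_3_ok, layF4_3_len,
    poin_step (RD hD) cmF4 (RD_A_F4 hD) [1] 2 layF4_2 layF4_2_ok, layF4_2_len,
    poin_step (RD hD) cmF4 (RD_A_F4 hD) [] 1 layF4_1 layF4_1_ok, layF4_1_len,
    set_nil, RootData.poin_empty]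
  simp only [polyOf_cons, polyOf_nil, qInt, Finset.sum_range_succ, Finset.sum_range_zero]
  push_cast
  ring

theorem memE6 : chevE6 ∈ stdList := by simp [stdList]

/-- Cartan matrix of E6 -/
def cmE6 : List (List ℤ) := [[2, 0, -1, 0, 0, 0], [0, 2, 0, -1, 0, 0], [-1, 0, 2, -1, 0, 0], [0, -1, -1, 2, -1, 0], [0, 0, 0, -1, 2, -1], [0, 0, 0, 0, -1, 2]]

theorem RD_A_E6 (hD : chevE6 ∈ stdList) : ∀ i j : Fin chevE6.rank, (RD hD).A i j = (cmE6.getD i []).getD j 0 := by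
  intro i j; rw [RD_A, (certOK_of_mem hD).cartan_eq i.2 ((certOK_of_mem hD).simple_lt j.2)]
  revert i j; decide +kernel

/-- layers of an orbit -/
def layE6_1 : List (List (List ℤ)) :=
  [[[.ofNat 0, .ofNat 0, .ofNat 0, .ofNat 1, .ofNat 0, .ofNat 0]],
   [[.ofNat 0, .ofNat 1, .ofNat 1, .negSucc 0, .ofNat 1, .ofNat 0]]]

theorem layE6_1_ok : stepOK cmE6 chevE6.rank [] 3 layE6_1 = true := by decide +kernel

theorem layE6_1_len : layE6_1.map List.length = [1, 1] := by decide +kernel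

/-- layers of an orbit -/
def layE6_2 : List (List (List ℤ)) :=
  [[[.ofNat 0, .ofNat 0, .ofNat 1, .ofNat 0, .ofNat 0, .ofNat 0]],
   [[.ofNat 1, .ofNat 0, .negSucc 0, .ofNat 1, .ofNat 0, .ofNat 0]],
   [[.ofNat 1, .ofNat 1, .ofNat 0, .negSucc 0, .ofNat 1, .ofNat 0]]]

theorem layE6_2_ok : stepOK cmE6 chevE6.rank [3] 2 layE6_2 = true := by decide +kernel

theorem layE6_2_len : layE6_2.map List.length = [1, 1, 1] := by decide +kernel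

/-- layers of an orbit -/
def layE6_3 : List (List (List ℤ)) :=
  [[[.ofNat 0, .ofNat 0, .ofNat 0, .ofNat 0, .ofNat 1, .ofNat 0]],
   [[.ofNat 0, .ofNat 0, .ofNat 0, .ofNat 1, .negSucc 0, .ofNat 1]],
   [[.ofNat 0, .ofNat 1, .ofNat 1, .negSucc 0, .ofNat 0, .ofNat 1]],
   [[.ofNat 1, .ofNat 1, .negSucc 0, .ofNat 0, .ofNat 0, .ofNat 1]]]

theorem layE6_3_ok : stepOK cmE6 chevE6.rank [2, 3] 4 layE6_3 = true := by decide +kernel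

theorem layE6_3_len : layE6_3.map List.length = [1, 1, 1, 1] := by decide +kernel

/-- layers of an orbit -/
def layE6_4 : List (List (List ℤ)) :=
  [[[.ofNat 0, .ofNat 1, .ofNat 0, .ofNat 0, .ofNat 0, .ofNat 0]],
   [[.ofNat 0, .negSucc 0, .ofNat 0, .ofNat 1, .ofNat 0, .ofNat 0]],
   [[.ofNat 0, .ofNat 0, .ofNat 1, .negSucc 0, .ofNat 1, .ofNat 0]],
   [[.ofNat 0, .ofNat 0, .ofNat 1, .ofNat 0, .negSucc 0, .ofNat 1], [.ofNat 1, .ofNat 0, .negSucc 0, .ofNat 0, .ofNat 1, .ofNat 0]],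
   [[.ofNat 1, .ofNat 0, .negSucc 0, .ofNat 1, .negSucc 0, .ofNat 1]],
   [[.ofNat 1, .ofNat 1, .ofNat 0, .negSucc 0, .ofNat 0, .ofNat 1]],
   [[.ofNat 1, .negSucc 0, .ofNat 0, .ofNat 0, .ofNat 0, .ofNat 1]]]

theorem layE6_4_ok : stepOK cmE6 chevE6.rank [4, 2, 3] 1 layE6_4 = true := by decide +kernel

theorem layE6_4_len : layE6_4.map List.length = [1, 1, 1, 2, 1, 1, 1] := by decide +kernel

/-- layers of an orbit -/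
def layE6_5 : List (List (List ℤ)) :=
  [[[.ofNat 1, .ofNat 0, .ofNat 0, .ofNat 0, .ofNat 0, .ofNat 0]],
   [[.negSucc 0, .ofNat 0, .ofNat 1, .ofNat 0, .ofNat 0, .ofNat 0]],
   [[.ofNat 0, .ofNat 0, .negSucc 0, .ofNat 1, .ofNat 0, .ofNat 0]],
   [[.ofNat 0, .ofNat 1, .ofNat 0, .negSucc 0, .ofNat 1, .ofNat 0]],
   [[.ofNat 0, .negSucc 0, .ofNat 0, .ofNat 0, .ofNat 1, .ofNat 0], [.ofNat 0, .ofNat 1, .ofNat 0, .ofNat 0, .negSucc 0, .ofNat 1]],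
   [[.ofNat 0, .negSucc 0, .ofNat 0, .ofNat 1, .negSucc 0, .ofNat 1]],
   [[.ofNat 0, .ofNat 0, .ofNat 1, .negSucc 0, .ofNat 0, .ofNat 1]],
   [[.ofNat 1, .ofNat 0, .negSucc 0, .ofNat 0, .ofNat 0, .ofNat 1]],
   [[.negSucc 0, .ofNat 0, .ofNat 0, .ofNat 0, .ofNat 0, .ofNat 1]]]

theorem layE6_5_ok : stepOK cmE6 chevE6.rank [1, 4, 2, 3] 0 layE6_5 = true := by decide +kernel

theorem layE6_5_len : layE6_5.map List.length = [1, 1, 1, 1, 2, 1, 1, 1, 1] := by decide +kernel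

/-- layers of an orbit -/
def layE6_6 : List (List (List ℤ)) :=
  [[[.ofNat 0, .ofNat 0, .ofNat 0, .ofNat 0, .ofNat 0, .ofNat 1]],
   [[.ofNat 0, .ofNat 0, .ofNat 0, .ofNat 0, .ofNat 1, .negSucc 0]],
   [[.ofNat 0, .ofNat 0, .ofNat 0, .ofNat 1, .negSucc 0, .ofNat 0]],
   [[.ofNat 0, .ofNat 1, .ofNat 1, .negSucc 0, .ofNat 0, .ofNat 0]],
   [[.ofNat 0, .negSucc 0, .ofNat 1, .ofNat 0, .ofNat 0, .ofNat 0], [.ofNat 1, .ofNat 1, .negSucc 0, .ofNat 0, .ofNat 0, .ofNat 0]],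
   [[.ofNat 1, .negSucc 0, .negSucc 0, .ofNat 1, .ofNat 0, .ofNat 0], [.negSucc 0, .ofNat 1, .ofNat 0, .ofNat 0, .ofNat 0, .ofNat 0]],
   [[.negSucc 0, .negSucc 0, .ofNat 0, .ofNat 1, .ofNat 0, .ofNat 0], [.ofNat 1, .ofNat 0, .ofNat 0, .negSucc 0, .ofNat 1, .ofNat 0]],
   [[.negSucc 0, .ofNat 0, .ofNat 1, .negSucc 0, .ofNat 1, .ofNat 0], [.ofNat 1, .ofNat 0, .ofNat 0, .ofNat 0, .negSucc 0, .ofNat 1]],
   [[.negSucc 0, .ofNat 0, .ofNat 1, .ofNat 0, .negSucc 0, .ofNat 1], [.ofNat 0, .ofNat 0, .negSucc 0, .ofNat 0, .ofNat 1, .ofNat 0], [.ofNat 1, .ofNat 0, .ofNat 0, .ofNat 0, .ofNat 0, .negSucc 0]],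
   [[.negSucc 0, .ofNat 0, .ofNat 1, .ofNat 0, .ofNat 0, .negSucc 0], [.ofNat 0, .ofNat 0, .negSucc 0, .ofNat 1, .negSucc 0, .ofNat 1]],
   [[.ofNat 0, .ofNat 0, .negSucc 0, .ofNat 1, .ofNat 0, .negSucc 0], [.ofNat 0, .ofNat 1, .ofNat 0, .negSucc 0, .ofNat 0, .ofNat 1]],
   [[.ofNat 0, .ofNat 1, .ofNat 0, .negSucc 0, .ofNat 1, .negSucc 0], [.ofNat 0, .negSucc 0, .ofNat 0, .ofNat 0, .ofNat 0, .ofNat 1]],
   [[.ofNat 0, .negSucc 0, .ofNat 0, .ofNat 0, .ofNat 1, .negSucc 0], [.ofNat 0, .ofNat 1, .ofNat 0, .ofNat 0, .negSucc 0, .ofNat 0]],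
   [[.ofNat 0, .negSucc 0, .ofNat 0, .ofNat 1, .negSucc 0, .ofNat 0]],
   [[.ofNat 0, .ofNat 0, .ofNat 1, .negSucc 0, .ofNat 0, .ofNat 0]],
   [[.ofNat 1, .ofNat 0, .negSucc 0, .ofNat 0, .ofNat 0, .ofNat 0]],
   [[.negSucc 0, .ofNat 0, .ofNat 0, .ofNat 0, .ofNat 0, .ofNat 0]]]

theorem layE6_6_ok : stepOK cmE6 chevE6.rank [0, 1, 4, 2, 3] 5 layE6_6 = true := by decide +kernel

theorem layE6_6_len : layE6_6.map List.length = [1, 1, 1, 1, 2, 2, 2, 2, 3, 2, 2, 2, 2, 1, 1, 1, 1] := by decide +kernel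

theorem poin_E6 (hD : chevE6 ∈ stdList) {S : Type*} [CommSemiring S] (q : S) :
    (RD hD).poin Set.univ q = qInt q 2 * qInt q 5 * qInt q 6 * qInt q 8 * qInt q 9 * qInt q 12 := by
  rw [← set_full chevE6.rank [5, 0, 1, 4, 2, 3] (by decide +kernel),
    poin_step (RD hD) cmE6 (RD_A_E6 hD) [0, 1, 4, 2, 3] 5 layE6_6 layE6_6_ok, layE6_6_len,
    poin_step (RD hD) cmE6 (RD_A_E6 hD) [1, 4, 2, 3] 0 layE6_5 layE6_5_ok, layE6_5_len,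
    poin_step (RD hD) cmE6 (RD_A_E6 hD) [4, 2, 3] 1 layE6_4 layE6_4_ok, layE6_4_len,
    poin_step (RD hD) cmE6 (RD_A_E6 hD) [2, 3] 4 layE6_3 layE6_3_ok, layE6_3_len,
    poin_step (RD hD) cmE6 (RD_A_E6 hD) [3] 2 layE6_2 layE6_2_ok, layE6_2_len,
    poin_step (RD hD) cmE6 (RD_A_E6 hD) [] 3 layE6_1 layE6_1_ok, layE6_1_len,
    set_nil, RootData.poin_empty]
  simp only [polyOf_cons, polyOf_nil, qInt, Finset.sum_range_succ, Finset.sum_range_zero]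
  push_cast
  ring

theorem memE7 : chevE7 ∈ stdList := by simp [stdList]

/-- Cartan matrix of E7 -/
def cmE7 : List (List ℤ) := [[2, 0, -1, 0, 0, 0, 0], [0, 2, 0, -1, 0, 0, 0], [-1, 0, 2, -1, 0, 0, 0], [0, -1, -1, 2, -1, 0, 0], [0, 0, 0, -1, 2, -1, 0], [0, 0, 0, 0, -1, 2, -1], [0, 0, 0, 0, 0, -1, 2]]

theorem RD_A_E7 (hD : chevE7 ∈ stdList) : ∀ i j : Fin chevE7.rank, (RD hD).A i j = (cmE7.getD i []).getD j 0 := by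
  intro i j; rw [RD_A, (certOK_of_mem hD).cartan_eq i.2 ((certOK_of_mem hD).simple_lt j.2)]
  revert i j; decide +kernel

/-- layers of an orbit -/
def layE7_1 : List (List (List ℤ)) :=
  [[[.ofNat 0, .ofNat 0, .ofNat 0, .ofNat 1, .ofNat 0, .ofNat 0, .ofNat 0]],
   [[.ofNat 0, .ofNat 1, .ofNat 1, .negSucc 0, .ofNat 1, .ofNat 0, .ofNat 0]]]

theorem layE7_1_ok : stepOK cmE7 chevE7.rank [] 3 layE7_1 = true := by decide +kernel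

theorem layE7_1_len : layE7_1.map List.length = [1, 1] := by decide +kernel

/-- layers of an orbit -/
def layE7_2 : List (List (List ℤ)) :=
  [[[.ofNat 0, .ofNat 0, .ofNat 1, .ofNat 0, .ofNat 0, .ofNat 0, .ofNat 0]],
   [[.ofNat 1, .ofNat 0, .negSucc 0, .ofNat 1, .ofNat 0, .ofNat 0, .ofNat 0]],
   [[.ofNat 1, .ofNat 1, .ofNat 0, .negSucc 0, .ofNat 1, .ofNat 0, .ofNat 0]]]

theorem layE7_2_ok : stepOK cmE7 chevE7.rank [3] 2 layE7_2 = true := by decide +kernel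

theorem layE7_2_len : layE7_2.map List.length = [1, 1, 1] := by decide +kernel

/-- layers of an orbit -/
def layE7_3 : List (List (List ℤ)) :=
  [[[.ofNat 0, .ofNat 0, .ofNat 0, .ofNat 0, .ofNat 1, .ofNat 0, .ofNat 0]],
   [[.ofNat 0, .ofNat 0, .ofNat 0, .ofNat 1, .negSucc 0, .ofNat 1, .ofNat 0]],
   [[.ofNat 0, .ofNat 1, .ofNat 1, .negSucc 0, .ofNat 0, .ofNat 1, .ofNat 0]],
   [[.ofNat 1, .ofNat 1, .negSucc 0, .ofNat 0, .ofNat 0, .ofNat 1, .ofNat 0]]]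

theorem layE7_3_ok : stepOK cmE7 chevE7.rank [2, 3] 4 layE7_3 = true := by decide +kernel

theorem layE7_3_len : layE7_3.map List.length = [1, 1, 1, 1] := by decide +kernel

/-- layers of an orbit -/
def layE7_4 : List (List (List ℤ)) :=
  [[[.ofNat 0, .ofNat 1, .ofNat 0, .ofNat 0, .ofNat 0, .ofNat 0, .ofNat 0]],
   [[.ofNat 0, .negSucc 0, .ofNat 0, .ofNat 1, .ofNat 0, .ofNat 0, .ofNat 0]],
   [[.ofNat 0, .ofNat 0, .ofNat 1, .negSucc 0, .ofNat 1, .ofNat 0, .ofNat 0]],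
   [[.ofNat 0, .ofNat 0, .ofNat 1, .ofNat 0, .negSucc 0, .ofNat 1, .ofNat 0], [.ofNat 1, .ofNat 0, .negSucc 0, .ofNat 0, .ofNat 1, .ofNat 0, .ofNat 0]],
   [[.ofNat 1, .ofNat 0, .negSucc 0, .ofNat 1, .negSucc 0, .ofNat 1, .ofNat 0]],
   [[.ofNat 1, .ofNat 1, .ofNat 0, .negSucc 0, .ofNat 0, .ofNat 1, .ofNat 0]],
   [[.ofNat 1, .negSucc 0, .ofNat 0, .ofNat 0, .ofNat 0, .ofNat 1, .ofNat 0]]]

theorem layE7_4_ok : stepOK cmE7 chevE7.rank [4, 2, 3] 1 layE7_4 = true := by decide +kernel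

theorem layE7_4_len : layE7_4.map List.length = [1, 1, 1, 2, 1, 1, 1] := by decide +kernel

/-- layers of an orbit -/
def layE7_5 : List (List (List ℤ)) :=
  [[[.ofNat 1, .ofNat 0, .ofNat 0, .ofNat 0, .ofNat 0, .ofNat 0, .ofNat 0]],
   [[.negSucc 0, .ofNat 0, .ofNat 1, .ofNat 0, .ofNat 0, .ofNat 0, .ofNat 0]],
   [[.ofNat 0, .ofNat 0, .negSucc 0, .ofNat 1, .ofNat 0, .ofNat 0, .ofNat 0]],
   [[.ofNat 0, .ofNat 1, .ofNat 0, .negSucc 0, .ofNat 1, .ofNat 0, .ofNat 0]],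
   [[.ofNat 0, .negSucc 0, .ofNat 0, .ofNat 0, .ofNat 1, .ofNat 0, .ofNat 0], [.ofNat 0, .ofNat 1, .ofNat 0, .ofNat 0, .negSucc 0, .ofNat 1, .ofNat 0]],
   [[.ofNat 0, .negSucc 0, .ofNat 0, .ofNat 1, .negSucc 0, .ofNat 1, .ofNat 0]],
   [[.ofNat 0, .ofNat 0, .ofNat 1, .negSucc 0, .ofNat 0, .ofNat 1, .ofNat 0]],
   [[.ofNat 1, .ofNat 0, .negSucc 0, .ofNat 0, .ofNat 0, .ofNat 1, .ofNat 0]],
   [[.negSucc 0, .ofNat 0, .ofNat 0, .ofNat 0, .ofNat 0, .ofNat 1, .ofNat 0]]]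

theorem layE7_5_ok : stepOK cmE7 chevE7.rank [1, 4, 2, 3] 0 layE7_5 = true := by decide +kernel

theorem layE7_5_len : layE7_5.map List.length = [1, 1, 1, 1, 2, 1, 1, 1, 1] := by decide +kernel

/-- layers of an orbit -/
def layE7_6 : List (List (List ℤ)) :=
  [[[.ofNat 0, .ofNat 0, .ofNat 0, .ofNat 0, .ofNat 0, .ofNat 1, .ofNat 0]],
   [[.ofNat 0, .ofNat 0, .ofNat 0, .ofNat 0, .ofNat 1, .negSucc 0, .ofNat 1]],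
   [[.ofNat 0, .ofNat 0, .ofNat 0, .ofNat 1, .negSucc 0, .ofNat 0, .ofNat 1]],
   [[.ofNat 0, .ofNat 1, .ofNat 1, .negSucc 0, .ofNat 0, .ofNat 0, .ofNat 1]],
   [[.ofNat 0, .negSucc 0, .ofNat 1, .ofNat 0, .ofNat 0, .ofNat 0, .ofNat 1], [.ofNat 1, .ofNat 1, .negSucc 0, .ofNat 0, .ofNat 0, .ofNat 0, .ofNat 1]],
   [[.ofNat 1, .negSucc 0, .negSucc 0, .ofNat 1, .ofNat 0, .ofNat 0, .ofNat 1], [.negSucc 0, .ofNat 1, .ofNat 0, .ofNat 0, .ofNat 0, .ofNat 0, .ofNat 1]],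
   [[.negSucc 0, .negSucc 0, .ofNat 0, .ofNat 1, .ofNat 0, .ofNat 0, .ofNat 1], [.ofNat 1, .ofNat 0, .ofNat 0, .negSucc 0, .ofNat 1, .ofNat 0, .ofNat 1]],
   [[.negSucc 0, .ofNat 0, .ofNat 1, .negSucc 0, .ofNat 1, .ofNat 0, .ofNat 1], [.ofNat 1, .ofNat 0, .ofNat 0, .ofNat 0, .negSucc 0, .ofNat 1, .ofNat 1]],
   [[.negSucc 0, .ofNat 0, .ofNat 1, .ofNat 0, .negSucc 0, .ofNat 1, .ofNat 1], [.ofNat 0, .ofNat 0, .negSucc 0, .ofNat 0, .ofNat 1, .ofNat 0, .ofNat 1], [.ofNat 1, .ofNat 0, .ofNat 0, .ofNat 0, .ofNat 0, .negSucc 0, .ofNat 2]],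
   [[.negSucc 0, .ofNat 0, .ofNat 1, .ofNat 0, .ofNat 0, .negSucc 0, .ofNat 2], [.ofNat 0, .ofNat 0, .negSucc 0, .ofNat 1, .negSucc 0, .ofNat 1, .ofNat 1]],
   [[.ofNat 0, .ofNat 0, .negSucc 0, .ofNat 1, .ofNat 0, .negSucc 0, .ofNat 2], [.ofNat 0, .ofNat 1, .ofNat 0, .negSucc 0, .ofNat 0, .ofNat 1, .ofNat 1]],
   [[.ofNat 0, .ofNat 1, .ofNat 0, .negSucc 0, .ofNat 1, .negSucc 0, .ofNat 2], [.ofNat 0, .negSucc 0, .ofNat 0, .ofNat 0, .ofNat 0, .ofNat 1, .ofNat 1]],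
   [[.ofNat 0, .negSucc 0, .ofNat 0, .ofNat 0, .ofNat 1, .negSucc 0, .ofNat 2], [.ofNat 0, .ofNat 1, .ofNat 0, .ofNat 0, .negSucc 0, .ofNat 0, .ofNat 2]],
   [[.ofNat 0, .negSucc 0, .ofNat 0, .ofNat 1, .negSucc 0, .ofNat 0, .ofNat 2]],
   [[.ofNat 0, .ofNat 0, .ofNat 1, .negSucc 0, .ofNat 0, .ofNat 0, .ofNat 2]],
   [[.ofNat 1, .ofNat 0, .negSucc 0, .ofNat 0, .ofNat 0, .ofNat 0, .ofNat 2]],
   [[.negSucc 0, .ofNat 0, .ofNat 0, .ofNat 0, .ofNat 0, .ofNat 0, .ofNat 2]]]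

theorem layE7_6_ok : stepOK cmE7 chevE7.rank [0, 1, 4, 2, 3] 5 layE7_6 = true := by decide +kernel

theorem layE7_6_len : layE7_6.map List.length = [1, 1, 1, 1, 2, 2, 2, 2, 3, 2, 2, 2, 2, 1, 1, 1, 1] := by decide +kernel

/-- layers of an orbit -/
def layE7_7 : List (List (List ℤ)) :=
  [[[.ofNat 0, .ofNat 0, .ofNat 0, .ofNat 0, .ofNat 0, .ofNat 0, .ofNat 1]],
   [[.ofNat 0, .ofNat 0, .ofNat 0, .ofNat 0, .ofNat 0, .ofNat 1, .negSucc 0]],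
   [[.ofNat 0, .ofNat 0, .ofNat 0, .ofNat 0, .ofNat 1, .negSucc 0, .ofNat 0]],
   [[.ofNat 0, .ofNat 0, .ofNat 0, .ofNat 1, .negSucc 0, .ofNat 0, .ofNat 0]],
   [[.ofNat 0, .ofNat 1, .ofNat 1, .negSucc 0, .ofNat 0, .ofNat 0, .ofNat 0]],
   [[.ofNat 0, .negSucc 0, .ofNat 1, .ofNat 0, .ofNat 0, .ofNat 0, .ofNat 0], [.ofNat 1, .ofNat 1, .negSucc 0, .ofNat 0, .ofNat 0, .ofNat 0, .ofNat 0]],
   [[.ofNat 1, .negSucc 0, .negSucc 0, .ofNat 1, .ofNat 0, .ofNat 0, .ofNat 0], [.negSucc 0, .ofNat 1, .ofNat 0, .ofNat 0, .ofNat 0, .ofNat 0, .ofNat 0]],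
   [[.negSucc 0, .negSucc 0, .ofNat 0, .ofNat 1, .ofNat 0, .ofNat 0, .ofNat 0], [.ofNat 1, .ofNat 0, .ofNat 0, .negSucc 0, .ofNat 1, .ofNat 0, .ofNat 0]],
   [[.negSucc 0, .ofNat 0, .ofNat 1, .negSucc 0, .ofNat 1, .ofNat 0, .ofNat 0], [.ofNat 1, .ofNat 0, .ofNat 0, .ofNat 0, .negSucc 0, .ofNat 1, .ofNat 0]],
   [[.negSucc 0, .ofNat 0, .ofNat 1, .ofNat 0, .negSucc 0, .ofNat 1, .ofNat 0], [.ofNat 0, .ofNat 0, .negSucc 0, .ofNat 0, .ofNat 1, .ofNat 0, .ofNat 0], [.ofNat 1, .ofNat 0, .ofNat 0, .ofNat 0, .ofNat 0, .negSucc 0, .ofNat 1]],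
   [[.negSucc 0, .ofNat 0, .ofNat 1, .ofNat 0, .ofNat 0, .negSucc 0, .ofNat 1], [.ofNat 0, .ofNat 0, .negSucc 0, .ofNat 1, .negSucc 0, .ofNat 1, .ofNat 0], [.ofNat 1, .ofNat 0, .ofNat 0, .ofNat 0, .ofNat 0, .ofNat 0, .negSucc 0]],
   [[.negSucc 0, .ofNat 0, .ofNat 1, .ofNat 0, .ofNat 0, .ofNat 0, .negSucc 0], [.ofNat 0, .ofNat 0, .negSucc 0, .ofNat 1, .ofNat 0, .negSucc 0, .ofNat 1], [.ofNat 0, .ofNat 1, .ofNat 0, .negSucc 0, .ofNat 0, .ofNat 1, .ofNat 0]],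
   [[.ofNat 0, .ofNat 0, .negSucc 0, .ofNat 1, .ofNat 0, .ofNat 0, .negSucc 0], [.ofNat 0, .ofNat 1, .ofNat 0, .negSucc 0, .ofNat 1, .negSucc 0, .ofNat 1], [.ofNat 0, .negSucc 0, .ofNat 0, .ofNat 0, .ofNat 0, .ofNat 1, .ofNat 0]],
   [[.ofNat 0, .ofNat 1, .ofNat 0, .negSucc 0, .ofNat 1, .ofNat 0, .negSucc 0], [.ofNat 0, .negSucc 0, .ofNat 0, .ofNat 0, .ofNat 1, .negSucc 0, .ofNat 1], [.ofNat 0, .ofNat 1, .ofNat 0, .ofNat 0, .negSucc 0, .ofNat 0, .ofNat 1]],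
   [[.ofNat 0, .negSucc 0, .ofNat 0, .ofNat 0, .ofNat 1, .ofNat 0, .negSucc 0], [.ofNat 0, .ofNat 1, .ofNat 0, .ofNat 0, .negSucc 0, .ofNat 1, .negSucc 0], [.ofNat 0, .negSucc 0, .ofNat 0, .ofNat 1, .negSucc 0, .ofNat 0, .ofNat 1]],
   [[.ofNat 0, .negSucc 0, .ofNat 0, .ofNat 1, .negSucc 0, .ofNat 1, .negSucc 0], [.ofNat 0, .ofNat 1, .ofNat 0, .ofNat 0, .ofNat 0, .negSucc 0, .ofNat 0], [.ofNat 0, .ofNat 0, .ofNat 1, .negSucc 0, .ofNat 0, .ofNat 0, .ofNat 1]],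
   [[.ofNat 0, .negSucc 0, .ofNat 0, .ofNat 1, .ofNat 0, .negSucc 0, .ofNat 0], [.ofNat 0, .ofNat 0, .ofNat 1, .negSucc 0, .ofNat 0, .ofNat 1, .negSucc 0], [.ofNat 1, .ofNat 0, .negSucc 0, .ofNat 0, .ofNat 0, .ofNat 0, .ofNat 1]],
   [[.ofNat 0, .ofNat 0, .ofNat 1, .negSucc 0, .ofNat 1, .negSucc 0, .ofNat 0], [.ofNat 1, .ofNat 0, .negSucc 0, .ofNat 0, .ofNat 0, .ofNat 1, .negSucc 0], [.negSucc 0, .ofNat 0, .ofNat 0, .ofNat 0, .ofNat 0, .ofNat 0, .ofNat 1]],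
   [[.ofNat 0, .ofNat 0, .ofNat 1, .ofNat 0, .negSucc 0, .ofNat 0, .ofNat 0], [.ofNat 1, .ofNat 0, .negSucc 0, .ofNat 0, .ofNat 1, .negSucc 0, .ofNat 0], [.negSucc 0, .ofNat 0, .ofNat 0, .ofNat 0, .ofNat 0, .ofNat 1, .negSucc 0]],
   [[.ofNat 1, .ofNat 0, .negSucc 0, .ofNat 1, .negSucc 0, .ofNat 0, .ofNat 0], [.negSucc 0, .ofNat 0, .ofNat 0, .ofNat 0, .ofNat 1, .negSucc 0, .ofNat 0]],
   [[.negSucc 0, .ofNat 0, .ofNat 0, .ofNat 1, .negSucc 0, .ofNat 0, .ofNat 0], [.ofNat 1, .ofNat 1, .ofNat 0, .negSucc 0, .ofNat 0, .ofNat 0, .ofNat 0]],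
   [[.negSucc 0, .ofNat 1, .ofNat 1, .negSucc 0, .ofNat 0, .ofNat 0, .ofNat 0], [.ofNat 1, .negSucc 0, .ofNat 0, .ofNat 0, .ofNat 0, .ofNat 0, .ofNat 0]],
   [[.negSucc 0, .negSucc 0, .ofNat 1, .ofNat 0, .ofNat 0, .ofNat 0, .ofNat 0], [.ofNat 0, .ofNat 1, .negSucc 0, .ofNat 0, .ofNat 0, .ofNat 0, .ofNat 0]],
   [[.ofNat 0, .negSucc 0, .negSucc 0, .ofNat 1, .ofNat 0, .ofNat 0, .ofNat 0]],
   [[.ofNat 0, .ofNat 0, .ofNat 0, .negSucc 0, .ofNat 1, .ofNat 0, .ofNat 0]],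
   [[.ofNat 0, .ofNat 0, .ofNat 0, .ofNat 0, .negSucc 0, .ofNat 1, .ofNat 0]],
   [[.ofNat 0, .ofNat 0, .ofNat 0, .ofNat 0, .ofNat 0, .negSucc 0, .ofNat 1]],
   [[.ofNat 0, .ofNat 0, .ofNat 0, .ofNat 0, .ofNat 0, .ofNat 0, .negSucc 0]]]

theorem layE7_7_ok : stepOK cmE7 chevE7.rank [5, 0, 1, 4, 2, 3] 6 layE7_7 = true := by decide +kernel

theorem layE7_7_len : layE7_7.map List.length = [1, 1, 1, 1, 1, 2, 2, 2, 2, 3, 3, 3, 3, 3, 3, 3, 3, 3, 3, 2, 2, 2, 2, 1, 1, 1, 1, 1] := by decide +kernel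

theorem poin_E7 (hD : chevE7 ∈ stdList) {S : Type*} [CommSemiring S] (q : S) :
    (RD hD).poin Set.univ q = qInt q 2 * qInt q 6 * qInt q 8 * qInt q 10 * qInt q 12 * qInt q 14 * qInt q 18 := by
  rw [← set_full chevE7.rank [6, 5, 0, 1, 4, 2, 3] (by decide +kernel),
    poin_step (RD hD) cmE7 (RD_A_E7 hD) [5, 0, 1, 4, 2, 3] 6 layE7_7 layE7_7_ok, layE7_7_len,
    poin_step (RD hD) cmE7 (RD_A_E7 hD) [0, 1, 4, 2, 3] 5 layE7_6 layE7_6_ok, layE7_6_len,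
    poin_step (RD hD) cmE7 (RD_A_E7 hD) [1, 4, 2, 3] 0 layE7_5 layE7_5_ok, layE7_5_len,
    poin_step (RD hD) cmE7 (RD_A_E7 hD) [4, 2, 3] 1 layE7_4 layE7_4_ok, layE7_4_len,
    poin_step (RD hD) cmE7 (RD_A_E7 hD) [2, 3] 4 layE7_3 layE7_3_ok, layE7_3_len,
    poin_step (RD hD) cmE7 (RD_A_E7 hD) [3] 2 layE7_2 layE7_2_ok, layE7_2_len,
    poin_step (RD hD) cmE7 (RD_A_E7 hD) [] 3 layE7_1 layE7_1_ok, layE7_1_len,
    set_nil, RootData.poin_empty]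
  simp only [polyOf_cons, polyOf_nil, qInt, Finset.sum_range_succ, Finset.sum_range_zero]
  push_cast
  ring

theorem memE8 : chevE8 ∈ stdList := by simp [stdList]

/-- Cartan matrix of E8 -/
def cmE8 : List (List ℤ) := [[2, 0, -1, 0, 0, 0, 0, 0], [0, 2, 0, -1, 0, 0, 0, 0], [-1, 0, 2, -1, 0, 0, 0, 0], [0, -1, -1, 2, -1, 0, 0, 0], [0, 0, 0, -1, 2, -1, 0, 0], [0, 0, 0, 0, -1, 2, -1, 0], [0, 0, 0, 0, 0, -1, 2, -1], [0, 0, 0, 0, 0, 0, -1, 2]]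

theorem RD_A_E8 (hD : chevE8 ∈ stdList) : ∀ i j : Fin chevE8.rank, (RD hD).A i j = (cmE8.getD i []).getD j 0 := by
  intro i j; rw [RD_A, (certOK_of_mem hD).cartan_eq i.2 ((certOK_of_mem hD).simple_lt j.2)]
  revert i j; decide +kernel

/-- layers of an orbit -/
def layE8_1 : List (List (List ℤ)) :=
  [[[.ofNat 0, .ofNat 0, .ofNat 0, .ofNat 1, .ofNat 0, .ofNat 0, .ofNat 0, .ofNat 0]],
   [[.ofNat 0, .ofNat 1, .ofNat 1, .negSucc 0, .ofNat 1, .ofNat 0, .ofNat 0, .ofNat 0]]]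

theorem layE8_1_ok : stepOK cmE8 chevE8.rank [] 3 layE8_1 = true := by decide +kernel

theorem layE8_1_len : layE8_1.map List.length = [1, 1] := by decide +kernel

/-- layers of an orbit -/
def layE8_2 : List (List (List ℤ)) :=
  [[[.ofNat 0, .ofNat 0, .ofNat 1, .ofNat 0, .ofNat 0, .ofNat 0, .ofNat 0, .ofNat 0]],
   [[.ofNat 1, .ofNat 0, .negSucc 0, .ofNat 1, .ofNat 0, .ofNat 0, .ofNat 0, .ofNat 0]],
   [[.ofNat 1, .ofNat 1, .ofNat 0, .negSucc 0, .ofNat 1, .ofNat 0, .ofNat 0, .ofNat 0]]]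

theorem layE8_2_ok : stepOK cmE8 chevE8.rank [3] 2 layE8_2 = true := by decide +kernel

theorem layE8_2_len : layE8_2.map List.length = [1, 1, 1] := by decide +kernel

/-- layers of an orbit -/
def layE8_3 : List (List (List ℤ)) :=
  [[[.ofNat 0, .ofNat 0, .ofNat 0, .ofNat 0, .ofNat 1, .ofNat 0, .ofNat 0, .ofNat 0]],
   [[.ofNat 0, .ofNat 0, .ofNat 0, .ofNat 1, .negSucc 0, .ofNat 1, .ofNat 0, .ofNat 0]],
   [[.ofNat 0, .ofNat 1, .ofNat 1, .negSucc 0, .ofNat 0, .ofNat 1, .ofNat 0, .ofNat 0]],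
   [[.ofNat 1, .ofNat 1, .negSucc 0, .ofNat 0, .ofNat 0, .ofNat 1, .ofNat 0, .ofNat 0]]]

theorem layE8_3_ok : stepOK cmE8 chevE8.rank [2, 3] 4 layE8_3 = true := by decide +kernel

theorem layE8_3_len : layE8_3.map List.length = [1, 1, 1, 1] := by decide +kernel

/-- layers of an orbit -/
def layE8_4 : List (List (List ℤ)) :=
  [[[.ofNat 0, .ofNat 1, .ofNat 0, .ofNat 0, .ofNat 0, .ofNat 0, .ofNat 0, .ofNat 0]],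
   [[.ofNat 0, .negSucc 0, .ofNat 0, .ofNat 1, .ofNat 0, .ofNat 0, .ofNat 0, .ofNat 0]],
   [[.ofNat 0, .ofNat 0, .ofNat 1, .negSucc 0, .ofNat 1, .ofNat 0, .ofNat 0, .ofNat 0]],
   [[.ofNat 0, .ofNat 0, .ofNat 1, .ofNat 0, .negSucc 0, .ofNat 1, .ofNat 0, .ofNat 0], [.ofNat 1, .ofNat 0, .negSucc 0, .ofNat 0, .ofNat 1, .ofNat 0, .ofNat 0, .ofNat 0]],
   [[.ofNat 1, .ofNat 0, .negSucc 0, .ofNat 1, .negSucc 0, .ofNat 1, .ofNat 0, .ofNat 0]],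
   [[.ofNat 1, .ofNat 1, .ofNat 0, .negSucc 0, .ofNat 0, .ofNat 1, .ofNat 0, .ofNat 0]],
   [[.ofNat 1, .negSucc 0, .ofNat 0, .ofNat 0, .ofNat 0, .ofNat 1, .ofNat 0, .ofNat 0]]]

theorem layE8_4_ok : stepOK cmE8 chevE8.rank [4, 2, 3] 1 layE8_4 = true := by decide +kernel

theorem layE8_4_len : layE8_4.map List.length = [1, 1, 1, 2, 1, 1, 1] := by decide +kernel

/-- layers of an orbit -/
def layE8_5 : List (List (List ℤ)) :=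
  [[[.ofNat 1, .ofNat 0, .ofNat 0, .ofNat 0, .ofNat 0, .ofNat 0, .ofNat 0, .ofNat 0]],
   [[.negSucc 0, .ofNat 0, .ofNat 1, .ofNat 0, .ofNat 0, .ofNat 0, .ofNat 0, .ofNat 0]],
   [[.ofNat 0, .ofNat 0, .negSucc 0, .ofNat 1, .ofNat 0, .ofNat 0, .ofNat 0, .ofNat 0]],
   [[.ofNat 0, .ofNat 1, .ofNat 0, .negSucc 0, .ofNat 1, .ofNat 0, .ofNat 0, .ofNat 0]],
   [[.ofNat 0, .negSucc 0, .ofNat 0, .ofNat 0, .ofNat 1, .ofNat 0, .ofNat 0, .ofNat 0], [.ofNat 0, .ofNat 1, .ofNat 0, .ofNat 0, .negSucc 0, .ofNat 1, .ofNat 0, .ofNat 0]],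
   [[.ofNat 0, .negSucc 0, .ofNat 0, .ofNat 1, .negSucc 0, .ofNat 1, .ofNat 0, .ofNat 0]],
   [[.ofNat 0, .ofNat 0, .ofNat 1, .negSucc 0, .ofNat 0, .ofNat 1, .ofNat 0, .ofNat 0]],
   [[.ofNat 1, .ofNat 0, .negSucc 0, .ofNat 0, .ofNat 0, .ofNat 1, .ofNat 0, .ofNat 0]],
   [[.negSucc 0, .ofNat 0, .ofNat 0, .ofNat 0, .ofNat 0, .ofNat 1, .ofNat 0, .ofNat 0]]]

theorem layE8_5_ok : stepOK cmE8 chevE8.rank [1, 4, 2, 3] 0 layE8_5 = true := by decide +kernel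

theorem layE8_5_len : layE8_5.map List.length = [1, 1, 1, 1, 2, 1, 1, 1, 1] := by decide +kernel

/-- layers of an orbit -/
def layE8_6 : List (List (List ℤ)) :=
  [[[.ofNat 0, .ofNat 0, .ofNat 0, .ofNat 0, .ofNat 0, .ofNat 1, .ofNat 0, .ofNat 0]],
   [[.ofNat 0, .ofNat 0, .ofNat 0, .ofNat 0, .ofNat 1, .negSucc 0, .ofNat 1, .ofNat 0]],
   [[.ofNat 0, .ofNat 0, .ofNat 0, .ofNat 1, .negSucc 0, .ofNat 0, .ofNat 1, .ofNat 0]],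
   [[.ofNat 0, .ofNat 1, .ofNat 1, .negSucc 0, .ofNat 0, .ofNat 0, .ofNat 1, .ofNat 0]],
   [[.ofNat 0, .negSucc 0, .ofNat 1, .ofNat 0, .ofNat 0, .ofNat 0, .ofNat 1, .ofNat 0], [.ofNat 1, .ofNat 1, .negSucc 0, .ofNat 0, .ofNat 0, .ofNat 0, .ofNat 1, .ofNat 0]],
   [[.ofNat 1, .negSucc 0, .negSucc 0, .ofNat 1, .ofNat 0, .ofNat 0, .ofNat 1, .ofNat 0], [.negSucc 0, .ofNat 1, .ofNat 0, .ofNat 0, .ofNat 0, .ofNat 0, .ofNat 1, .ofNat 0]],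
   [[.negSucc 0, .negSucc 0, .ofNat 0, .ofNat 1, .ofNat 0, .ofNat 0, .ofNat 1, .ofNat 0], [.ofNat 1, .ofNat 0, .ofNat 0, .negSucc 0, .ofNat 1, .ofNat 0, .ofNat 1, .ofNat 0]],
   [[.negSucc 0, .ofNat 0, .ofNat 1, .negSucc 0, .ofNat 1, .ofNat 0, .ofNat 1, .ofNat 0], [.ofNat 1, .ofNat 0, .ofNat 0, .ofNat 0, .negSucc 0, .ofNat 1, .ofNat 1, .ofNat 0]],
   [[.negSucc 0, .ofNat 0, .ofNat 1, .ofNat 0, .negSucc 0, .ofNat 1, .ofNat 1, .ofNat 0], [.ofNat 0, .ofNat 0, .negSucc 0, .ofNat 0, .ofNat 1, .ofNat 0, .ofNat 1, .ofNat 0], [.ofNat 1, .ofNat 0, .ofNat 0, .ofNat 0, .ofNat 0, .negSucc 0, .ofNat 2, .ofNat 0]],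
   [[.negSucc 0, .ofNat 0, .ofNat 1, .ofNat 0, .ofNat 0, .negSucc 0, .ofNat 2, .ofNat 0], [.ofNat 0, .ofNat 0, .negSucc 0, .ofNat 1, .negSucc 0, .ofNat 1, .ofNat 1, .ofNat 0]],
   [[.ofNat 0, .ofNat 0, .negSucc 0, .ofNat 1, .ofNat 0, .negSucc 0, .ofNat 2, .ofNat 0], [.ofNat 0, .ofNat 1, .ofNat 0, .negSucc 0, .ofNat 0, .ofNat 1, .ofNat 1, .ofNat 0]],
   [[.ofNat 0, .ofNat 1, .ofNat 0, .negSucc 0, .ofNat 1, .negSucc 0, .ofNat 2, .ofNat 0], [.ofNat 0, .negSucc 0, .ofNat 0, .ofNat 0, .ofNat 0, .ofNat 1, .ofNat 1, .ofNat 0]],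
   [[.ofNat 0, .negSucc 0, .ofNat 0, .ofNat 0, .ofNat 1, .negSucc 0, .ofNat 2, .ofNat 0], [.ofNat 0, .ofNat 1, .ofNat 0, .ofNat 0, .negSucc 0, .ofNat 0, .ofNat 2, .ofNat 0]],
   [[.ofNat 0, .negSucc 0, .ofNat 0, .ofNat 1, .negSucc 0, .ofNat 0, .ofNat 2, .ofNat 0]],
   [[.ofNat 0, .ofNat 0, .ofNat 1, .negSucc 0, .ofNat 0, .ofNat 0, .ofNat 2, .ofNat 0]],
   [[.ofNat 1, .ofNat 0, .negSucc 0, .ofNat 0, .ofNat 0, .ofNat 0, .ofNat 2, .ofNat 0]],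
   [[.negSucc 0, .ofNat 0, .ofNat 0, .ofNat 0, .ofNat 0, .ofNat 0, .ofNat 2, .ofNat 0]]]

theorem layE8_6_ok : stepOK cmE8 chevE8.rank [0, 1, 4, 2, 3] 5 layE8_6 = true := by decide +kernel

theorem layE8_6_len : layE8_6.map List.length = [1, 1, 1, 1, 2, 2, 2, 2, 3, 2, 2, 2, 2, 1, 1, 1, 1] := by decide +kernel

/-- layers of an orbit -/
def layE8_7 : List (List (List ℤ)) :=
  [[[.ofNat 0, .ofNat 0, .ofNat 0, .ofNat 0, .ofNat 0, .ofNat 0, .ofNat 1, .ofNat 0]],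
   [[.ofNat 0, .ofNat 0, .ofNat 0, .ofNat 0, .ofNat 0, .ofNat 1, .negSucc 0, .ofNat 1]],
   [[.ofNat 0, .ofNat 0, .ofNat 0, .ofNat 0, .ofNat 1, .negSucc 0, .ofNat 0, .ofNat 1]],
   [[.ofNat 0, .ofNat 0, .ofNat 0, .ofNat 1, .negSucc 0, .ofNat 0, .ofNat 0, .ofNat 1]],
   [[.ofNat 0, .ofNat 1, .ofNat 1, .negSucc 0, .ofNat 0, .ofNat 0, .ofNat 0, .ofNat 1]],
   [[.ofNat 0, .negSucc 0, .ofNat 1, .ofNat 0, .ofNat 0, .ofNat 0, .ofNat 0, .ofNat 1], [.ofNat 1, .ofNat 1, .negSucc 0, .ofNat 0, .ofNat 0, .ofNat 0, .ofNat 0, .ofNat 1]],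
   [[.ofNat 1, .negSucc 0, .negSucc 0, .ofNat 1, .ofNat 0, .ofNat 0, .ofNat 0, .ofNat 1], [.negSucc 0, .ofNat 1, .ofNat 0, .ofNat 0, .ofNat 0, .ofNat 0, .ofNat 0, .ofNat 1]],
   [[.negSucc 0, .negSucc 0, .ofNat 0, .ofNat 1, .ofNat 0, .ofNat 0, .ofNat 0, .ofNat 1], [.ofNat 1, .ofNat 0, .ofNat 0, .negSucc 0, .ofNat 1, .ofNat 0, .ofNat 0, .ofNat 1]],
   [[.negSucc 0, .ofNat 0, .ofNat 1, .negSucc 0, .ofNat 1, .ofNat 0, .ofNat 0, .ofNat 1], [.ofNat 1, .ofNat 0, .ofNat 0, .ofNat 0, .negSucc 0, .ofNat 1, .ofNat 0, .ofNat 1]],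
   [[.negSucc 0, .ofNat 0, .ofNat 1, .ofNat 0, .negSucc 0, .ofNat 1, .ofNat 0, .ofNat 1], [.ofNat 0, .ofNat 0, .negSucc 0, .ofNat 0, .ofNat 1, .ofNat 0, .ofNat 0, .ofNat 1], [.ofNat 1, .ofNat 0, .ofNat 0, .ofNat 0, .ofNat 0, .negSucc 0, .ofNat 1, .ofNat 1]],
   [[.negSucc 0, .ofNat 0, .ofNat 1, .ofNat 0, .ofNat 0, .negSucc 0, .ofNat 1, .ofNat 1], [.ofNat 0, .ofNat 0, .negSucc 0, .ofNat 1, .negSucc 0, .ofNat 1, .ofNat 0, .ofNat 1], [.ofNat 1, .ofNat 0, .ofNat 0, .ofNat 0, .ofNat 0, .ofNat 0, .negSucc 0, .ofNat 2]],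
   [[.negSucc 0, .ofNat 0, .ofNat 1, .ofNat 0, .ofNat 0, .ofNat 0, .negSucc 0, .ofNat 2], [.ofNat 0, .ofNat 0, .negSucc 0, .ofNat 1, .ofNat 0, .negSucc 0, .ofNat 1, .ofNat 1], [.ofNat 0, .ofNat 1, .ofNat 0, .negSucc 0, .ofNat 0, .ofNat 1, .ofNat 0, .ofNat 1]],
   [[.ofNat 0, .ofNat 0, .negSucc 0, .ofNat 1, .ofNat 0, .ofNat 0, .negSucc 0, .ofNat 2], [.ofNat 0, .ofNat 1, .ofNat 0, .negSucc 0, .ofNat 1, .negSucc 0, .ofNat 1, .ofNat 1], [.ofNat 0, .negSucc 0, .ofNat 0, .ofNat 0, .ofNat 0, .ofNat 1, .ofNat 0, .ofNat 1]],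
   [[.ofNat 0, .ofNat 1, .ofNat 0, .negSucc 0, .ofNat 1, .ofNat 0, .negSucc 0, .ofNat 2], [.ofNat 0, .negSucc 0, .ofNat 0, .ofNat 0, .ofNat 1, .negSucc 0, .ofNat 1, .ofNat 1], [.ofNat 0, .ofNat 1, .ofNat 0, .ofNat 0, .negSucc 0, .ofNat 0, .ofNat 1, .ofNat 1]],
   [[.ofNat 0, .negSucc 0, .ofNat 0, .ofNat 0, .ofNat 1, .ofNat 0, .negSucc 0, .ofNat 2], [.ofNat 0, .ofNat 1, .ofNat 0, .ofNat 0, .negSucc 0, .ofNat 1, .negSucc 0, .ofNat 2], [.ofNat 0, .negSucc 0, .ofNat 0, .ofNat 1, .negSucc 0, .ofNat 0, .ofNat 1, .ofNat 1]],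
   [[.ofNat 0, .negSucc 0, .ofNat 0, .ofNat 1, .negSucc 0, .ofNat 1, .negSucc 0, .ofNat 2], [.ofNat 0, .ofNat 1, .ofNat 0, .ofNat 0, .ofNat 0, .negSucc 0, .ofNat 0, .ofNat 2], [.ofNat 0, .ofNat 0, .ofNat 1, .negSucc 0, .ofNat 0, .ofNat 0, .ofNat 1, .ofNat 1]],
   [[.ofNat 0, .negSucc 0, .ofNat 0, .ofNat 1, .ofNat 0, .negSucc 0, .ofNat 0, .ofNat 2], [.ofNat 0, .ofNat 0, .ofNat 1, .negSucc 0, .ofNat 0, .ofNat 1, .negSucc 0, .ofNat 2], [.ofNat 1, .ofNat 0, .negSucc 0, .ofNat 0, .ofNat 0, .ofNat 0, .ofNat 1, .ofNat 1]],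
   [[.ofNat 0, .ofNat 0, .ofNat 1, .negSucc 0, .ofNat 1, .negSucc 0, .ofNat 0, .ofNat 2], [.ofNat 1, .ofNat 0, .negSucc 0, .ofNat 0, .ofNat 0, .ofNat 1, .negSucc 0, .ofNat 2], [.negSucc 0, .ofNat 0, .ofNat 0, .ofNat 0, .ofNat 0, .ofNat 0, .ofNat 1, .ofNat 1]],
   [[.ofNat 0, .ofNat 0, .ofNat 1, .ofNat 0, .negSucc 0, .ofNat 0, .ofNat 0, .ofNat 2], [.ofNat 1, .ofNat 0, .negSucc 0, .ofNat 0, .ofNat 1, .negSucc 0, .ofNat 0, .ofNat 2], [.negSucc 0, .ofNat 0, .ofNat 0, .ofNat 0, .ofNat 0, .ofNat 1, .negSucc 0, .ofNat 2]],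
   [[.ofNat 1, .ofNat 0, .negSucc 0, .ofNat 1, .negSucc 0, .ofNat 0, .ofNat 0, .ofNat 2], [.negSucc 0, .ofNat 0, .ofNat 0, .ofNat 0, .ofNat 1, .negSucc 0, .ofNat 0, .ofNat 2]],
   [[.negSucc 0, .ofNat 0, .ofNat 0, .ofNat 1, .negSucc 0, .ofNat 0, .ofNat 0, .ofNat 2], [.ofNat 1, .ofNat 1, .ofNat 0, .negSucc 0, .ofNat 0, .ofNat 0, .ofNat 0, .ofNat 2]],
   [[.negSucc 0, .ofNat 1, .ofNat 1, .negSucc 0, .ofNat 0, .ofNat 0, .ofNat 0, .ofNat 2], [.ofNat 1, .negSucc 0, .ofNat 0, .ofNat 0, .ofNat 0, .ofNat 0, .ofNat 0, .ofNat 2]],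
   [[.negSucc 0, .negSucc 0, .ofNat 1, .ofNat 0, .ofNat 0, .ofNat 0, .ofNat 0, .ofNat 2], [.ofNat 0, .ofNat 1, .negSucc 0, .ofNat 0, .ofNat 0, .ofNat 0, .ofNat 0, .ofNat 2]],
   [[.ofNat 0, .negSucc 0, .negSucc 0, .ofNat 1, .ofNat 0, .ofNat 0, .ofNat 0, .ofNat 2]],
   [[.ofNat 0, .ofNat 0, .ofNat 0, .negSucc 0, .ofNat 1, .ofNat 0, .ofNat 0, .ofNat 2]],
   [[.ofNat 0, .ofNat 0, .ofNat 0, .ofNat 0, .negSucc 0, .ofNat 1, .ofNat 0, .ofNat 2]],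
   [[.ofNat 0, .ofNat 0, .ofNat 0, .ofNat 0, .ofNat 0, .negSucc 0, .ofNat 1, .ofNat 2]],
   [[.ofNat 0, .ofNat 0, .ofNat 0, .ofNat 0, .ofNat 0, .ofNat 0, .negSucc 0, .ofNat 3]]]

theorem layE8_7_ok : stepOK cmE8 chevE8.rank [5, 0, 1, 4, 2, 3] 6 layE8_7 = true := by decide +kernel

theorem layE8_7_len : layE8_7.map List.length = [1, 1, 1, 1, 1, 2, 2, 2, 2, 3, 3, 3, 3, 3, 3, 3, 3, 3, 3, 2, 2, 2, 2, 1, 1, 1, 1, 1] := by decide +kernel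

/-- layers of an orbit -/
def layE8_8 : List (List (List ℤ)) :=
  [[[.ofNat 0, .ofNat 0, .ofNat 0, .ofNat 0, .ofNat 0, .ofNat 0, .ofNat 0, .ofNat 1]],
   [[.ofNat 0, .ofNat 0, .ofNat 0, .ofNat 0, .ofNat 0, .ofNat 0, .ofNat 1, .negSucc 0]],
   [[.ofNat 0, .ofNat 0, .ofNat 0, .ofNat 0, .ofNat 0, .ofNat 1, .negSucc 0, .ofNat 0]],
   [[.ofNat 0, .ofNat 0, .ofNat 0, .ofNat 0, .ofNat 1, .negSucc 0, .ofNat 0, .ofNat 0]],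
   [[.ofNat 0, .ofNat 0, .ofNat 0, .ofNat 1, .negSucc 0, .ofNat 0, .ofNat 0, .ofNat 0]],
   [[.ofNat 0, .ofNat 1, .ofNat 1, .negSucc 0, .ofNat 0, .ofNat 0, .ofNat 0, .ofNat 0]],
   [[.ofNat 0, .negSucc 0, .ofNat 1, .ofNat 0, .ofNat 0, .ofNat 0, .ofNat 0, .ofNat 0], [.ofNat 1, .ofNat 1, .negSucc 0, .ofNat 0, .ofNat 0, .ofNat 0, .ofNat 0, .ofNat 0]],
   [[.ofNat 1, .negSucc 0, .negSucc 0, .ofNat 1, .ofNat 0, .ofNat 0, .ofNat 0, .ofNat 0], [.negSucc 0, .ofNat 1, .ofNat 0, .ofNat 0, .ofNat 0, .ofNat 0, .ofNat 0, .ofNat 0]],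
   [[.negSucc 0, .negSucc 0, .ofNat 0, .ofNat 1, .ofNat 0, .ofNat 0, .ofNat 0, .ofNat 0], [.ofNat 1, .ofNat 0, .ofNat 0, .negSucc 0, .ofNat 1, .ofNat 0, .ofNat 0, .ofNat 0]],
   [[.negSucc 0, .ofNat 0, .ofNat 1, .negSucc 0, .ofNat 1, .ofNat 0, .ofNat 0, .ofNat 0], [.ofNat 1, .ofNat 0, .ofNat 0, .ofNat 0, .negSucc 0, .ofNat 1, .ofNat 0, .ofNat 0]],
   [[.negSucc 0, .ofNat 0, .ofNat 1, .ofNat 0, .negSucc 0, .ofNat 1, .ofNat 0, .ofNat 0], [.ofNat 0, .ofNat 0, .negSucc 0, .ofNat 0, .ofNat 1, .ofNat 0, .ofNat 0, .ofNat 0], [.ofNat 1, .ofNat 0, .ofNat 0, .ofNat 0, .ofNat 0, .negSucc 0, .ofNat 1, .ofNat 0]],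
   [[.negSucc 0, .ofNat 0, .ofNat 1, .ofNat 0, .ofNat 0, .negSucc 0, .ofNat 1, .ofNat 0], [.ofNat 0, .ofNat 0, .negSucc 0, .ofNat 1, .negSucc 0, .ofNat 1, .ofNat 0, .ofNat 0], [.ofNat 1, .ofNat 0, .ofNat 0, .ofNat 0, .ofNat 0, .ofNat 0, .negSucc 0, .ofNat 1]],
   [[.negSucc 0, .ofNat 0, .ofNat 1, .ofNat 0, .ofNat 0, .ofNat 0, .negSucc 0, .ofNat 1], [.ofNat 0, .ofNat 0, .negSucc 0, .ofNat 1, .ofNat 0, .negSucc 0, .ofNat 1, .ofNat 0], [.ofNat 0, .ofNat 1, .ofNat 0, .negSucc 0, .ofNat 0, .ofNat 1, .ofNat 0, .ofNat 0], [.ofNat 1, .ofNat 0, .ofNat 0, .ofNat 0, .ofNat 0, .ofNat 0, .ofNat 0, .negSucc 0]],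
   [[.negSucc 0, .ofNat 0, .ofNat 1, .ofNat 0, .ofNat 0, .ofNat 0, .ofNat 0, .negSucc 0], [.ofNat 0, .ofNat 0, .negSucc 0, .ofNat 1, .ofNat 0, .ofNat 0, .negSucc 0, .ofNat 1], [.ofNat 0, .ofNat 1, .ofNat 0, .negSucc 0, .ofNat 1, .negSucc 0, .ofNat 1, .ofNat 0], [.ofNat 0, .negSucc 0, .ofNat 0, .ofNat 0, .ofNat 0, .ofNat 1, .ofNat 0, .ofNat 0]],
   [[.ofNat 0, .ofNat 0, .negSucc 0, .ofNat 1, .ofNat 0, .ofNat 0, .ofNat 0, .negSucc 0], [.ofNat 0, .ofNat 1, .ofNat 0, .negSucc 0, .ofNat 1, .ofNat 0, .negSucc 0, .ofNat 1], [.ofNat 0, .negSucc 0, .ofNat 0, .ofNat 0, .ofNat 1, .negSucc 0, .ofNat 1, .ofNat 0], [.ofNat 0, .ofNat 1, .ofNat 0, .ofNat 0, .negSucc 0, .ofNat 0, .ofNat 1, .ofNat 0]],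
   [[.ofNat 0, .ofNat 1, .ofNat 0, .negSucc 0, .ofNat 1, .ofNat 0, .ofNat 0, .negSucc 0], [.ofNat 0, .negSucc 0, .ofNat 0, .ofNat 0, .ofNat 1, .ofNat 0, .negSucc 0, .ofNat 1], [.ofNat 0, .ofNat 1, .ofNat 0, .ofNat 0, .negSucc 0, .ofNat 1, .negSucc 0, .ofNat 1], [.ofNat 0, .negSucc 0, .ofNat 0, .ofNat 1, .negSucc 0, .ofNat 0, .ofNat 1, .ofNat 0]],
   [[.ofNat 0, .negSucc 0, .ofNat 0, .ofNat 0, .ofNat 1, .ofNat 0, .ofNat 0, .negSucc 0], [.ofNat 0, .ofNat 1, .ofNat 0, .ofNat 0, .negSucc 0, .ofNat 1, .ofNat 0, .negSucc 0], [.ofNat 0, .negSucc 0, .ofNat 0, .ofNat 1, .negSucc 0, .ofNat 1, .negSucc 0, .ofNat 1], [.ofNat 0, .ofNat 1, .ofNat 0, .ofNat 0, .ofNat 0, .negSucc 0, .ofNat 0, .ofNat 1], [.ofNat 0, .ofNat 0, .ofNat 1, .negSucc 0, .ofNat 0, .ofNat 0, .ofNat 1, .ofNat 0]],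
   [[.ofNat 0, .negSucc 0, .ofNat 0, .ofNat 1, .negSucc 0, .ofNat 1, .ofNat 0, .negSucc 0], [.ofNat 0, .ofNat 1, .ofNat 0, .ofNat 0, .ofNat 0, .negSucc 0, .ofNat 1, .negSucc 0], [.ofNat 0, .negSucc 0, .ofNat 0, .ofNat 1, .ofNat 0, .negSucc 0, .ofNat 0, .ofNat 1], [.ofNat 0, .ofNat 0, .ofNat 1, .negSucc 0, .ofNat 0, .ofNat 1, .negSucc 0, .ofNat 1], [.ofNat 1, .ofNat 0, .negSucc 0, .ofNat 0, .ofNat 0, .ofNat 0, .ofNat 1, .ofNat 0]],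
   [[.ofNat 0, .negSucc 0, .ofNat 0, .ofNat 1, .ofNat 0, .negSucc 0, .ofNat 1, .negSucc 0], [.ofNat 0, .ofNat 0, .ofNat 1, .negSucc 0, .ofNat 0, .ofNat 1, .ofNat 0, .negSucc 0], [.ofNat 0, .ofNat 1, .ofNat 0, .ofNat 0, .ofNat 0, .ofNat 0, .negSucc 0, .ofNat 0], [.ofNat 0, .ofNat 0, .ofNat 1, .negSucc 0, .ofNat 1, .negSucc 0, .ofNat 0, .ofNat 1], [.ofNat 1, .ofNat 0, .negSucc 0, .ofNat 0, .ofNat 0, .ofNat 1, .negSucc 0, .ofNat 1], [.negSucc 0, .ofNat 0, .ofNat 0, .ofNat 0, .ofNat 0, .ofNat 0, .ofNat 1, .ofNat 0]],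
   [[.ofNat 0, .negSucc 0, .ofNat 0, .ofNat 1, .ofNat 0, .ofNat 0, .negSucc 0, .ofNat 0], [.ofNat 0, .ofNat 0, .ofNat 1, .negSucc 0, .ofNat 1, .negSucc 0, .ofNat 1, .negSucc 0], [.ofNat 1, .ofNat 0, .negSucc 0, .ofNat 0, .ofNat 0, .ofNat 1, .ofNat 0, .negSucc 0], [.ofNat 0, .ofNat 0, .ofNat 1, .ofNat 0, .negSucc 0, .ofNat 0, .ofNat 0, .ofNat 1], [.ofNat 1, .ofNat 0, .negSucc 0, .ofNat 0, .ofNat 1, .negSucc 0, .ofNat 0, .ofNat 1], [.negSucc 0, .ofNat 0, .ofNat 0, .ofNat 0, .ofNat 0, .ofNat 1, .negSucc 0, .ofNat 1]],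
   [[.ofNat 0, .ofNat 0, .ofNat 1, .negSucc 0, .ofNat 1, .ofNat 0, .negSucc 0, .ofNat 0], [.ofNat 0, .ofNat 0, .ofNat 1, .ofNat 0, .negSucc 0, .ofNat 0, .ofNat 1, .negSucc 0], [.ofNat 1, .ofNat 0, .negSucc 0, .ofNat 0, .ofNat 1, .negSucc 0, .ofNat 1, .negSucc 0], [.negSucc 0, .ofNat 0, .ofNat 0, .ofNat 0, .ofNat 0, .ofNat 1, .ofNat 0, .negSucc 0], [.ofNat 1, .ofNat 0, .negSucc 0, .ofNat 1, .negSucc 0, .ofNat 0, .ofNat 0, .ofNat 1], [.negSucc 0, .ofNat 0, .ofNat 0, .ofNat 0, .ofNat 1, .negSucc 0, .ofNat 0, .ofNat 1]],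
   [[.ofNat 0, .ofNat 0, .ofNat 1, .ofNat 0, .negSucc 0, .ofNat 1, .negSucc 0, .ofNat 0], [.ofNat 1, .ofNat 0, .negSucc 0, .ofNat 0, .ofNat 1, .ofNat 0, .negSucc 0, .ofNat 0], [.ofNat 1, .ofNat 0, .negSucc 0, .ofNat 1, .negSucc 0, .ofNat 0, .ofNat 1, .negSucc 0], [.negSucc 0, .ofNat 0, .ofNat 0, .ofNat 0, .ofNat 1, .negSucc 0, .ofNat 1, .negSucc 0], [.negSucc 0, .ofNat 0, .ofNat 0, .ofNat 1, .negSucc 0, .ofNat 0, .ofNat 0, .ofNat 1], [.ofNat 1, .ofNat 1, .ofNat 0, .negSucc 0, .ofNat 0, .ofNat 0, .ofNat 0, .ofNat 1]],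
   [[.ofNat 0, .ofNat 0, .ofNat 1, .ofNat 0, .ofNat 0, .negSucc 0, .ofNat 0, .ofNat 0], [.ofNat 1, .ofNat 0, .negSucc 0, .ofNat 1, .negSucc 0, .ofNat 1, .negSucc 0, .ofNat 0], [.negSucc 0, .ofNat 0, .ofNat 0, .ofNat 0, .ofNat 1, .ofNat 0, .negSucc 0, .ofNat 0], [.negSucc 0, .ofNat 0, .ofNat 0, .ofNat 1, .negSucc 0, .ofNat 0, .ofNat 1, .negSucc 0], [.ofNat 1, .ofNat 1, .ofNat 0, .negSucc 0, .ofNat 0, .ofNat 0, .ofNat 1, .negSucc 0], [.negSucc 0, .ofNat 1, .ofNat 1, .negSucc 0, .ofNat 0, .ofNat 0, .ofNat 0, .ofNat 1], [.ofNat 1, .negSucc 0, .ofNat 0, .ofNat 0, .ofNat 0, .ofNat 0, .ofNat 0, .ofNat 1]],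
   [[.ofNat 1, .ofNat 0, .negSucc 0, .ofNat 1, .ofNat 0, .negSucc 0, .ofNat 0, .ofNat 0], [.negSucc 0, .ofNat 0, .ofNat 0, .ofNat 1, .negSucc 0, .ofNat 1, .negSucc 0, .ofNat 0], [.ofNat 1, .ofNat 1, .ofNat 0, .negSucc 0, .ofNat 0, .ofNat 1, .negSucc 0, .ofNat 0], [.negSucc 0, .ofNat 1, .ofNat 1, .negSucc 0, .ofNat 0, .ofNat 0, .ofNat 1, .negSucc 0], [.ofNat 1, .negSucc 0, .ofNat 0, .ofNat 0, .ofNat 0, .ofNat 0, .ofNat 1, .negSucc 0], [.negSucc 0, .negSucc 0, .ofNat 1, .ofNat 0, .ofNat 0, .ofNat 0, .ofNat 0, .ofNat 1], [.ofNat 0, .ofNat 1, .negSucc 0, .ofNat 0, .ofNat 0, .ofNat 0, .ofNat 0, .ofNat 1]],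
   [[.negSucc 0, .ofNat 0, .ofNat 0, .ofNat 1, .ofNat 0, .negSucc 0, .ofNat 0, .ofNat 0], [.ofNat 1, .ofNat 1, .ofNat 0, .negSucc 0, .ofNat 1, .negSucc 0, .ofNat 0, .ofNat 0], [.negSucc 0, .ofNat 1, .ofNat 1, .negSucc 0, .ofNat 0, .ofNat 1, .negSucc 0, .ofNat 0], [.ofNat 1, .negSucc 0, .ofNat 0, .ofNat 0, .ofNat 0, .ofNat 1, .negSucc 0, .ofNat 0], [.negSucc 0, .negSucc 0, .ofNat 1, .ofNat 0, .ofNat 0, .ofNat 0, .ofNat 1, .negSucc 0], [.ofNat 0, .ofNat 1, .negSucc 0, .ofNat 0, .ofNat 0, .ofNat 0, .ofNat 1, .negSucc 0], [.ofNat 0, .negSucc 0, .negSucc 0, .ofNat 1, .ofNat 0, .ofNat 0, .ofNat 0, .ofNat 1]],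
   [[.negSucc 0, .ofNat 1, .ofNat 1, .negSucc 0, .ofNat 1, .negSucc 0, .ofNat 0, .ofNat 0], [.ofNat 1, .negSucc 0, .ofNat 0, .ofNat 0, .ofNat 1, .negSucc 0, .ofNat 0, .ofNat 0], [.ofNat 1, .ofNat 1, .ofNat 0, .ofNat 0, .negSucc 0, .ofNat 0, .ofNat 0, .ofNat 0], [.negSucc 0, .negSucc 0, .ofNat 1, .ofNat 0, .ofNat 0, .ofNat 1, .negSucc 0, .ofNat 0], [.ofNat 0, .ofNat 1, .negSucc 0, .ofNat 0, .ofNat 0, .ofNat 1, .negSucc 0, .ofNat 0], [.ofNat 0, .negSucc 0, .negSucc 0, .ofNat 1, .ofNat 0, .ofNat 0, .ofNat 1, .negSucc 0], [.ofNat 0, .ofNat 0, .ofNat 0, .negSucc 0, .ofNat 1, .ofNat 0, .ofNat 0, .ofNat 1]],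
   [[.negSucc 0, .negSucc 0, .ofNat 1, .ofNat 0, .ofNat 1, .negSucc 0, .ofNat 0, .ofNat 0], [.negSucc 0, .ofNat 1, .ofNat 1, .ofNat 0, .negSucc 0, .ofNat 0, .ofNat 0, .ofNat 0], [.ofNat 0, .ofNat 1, .negSucc 0, .ofNat 0, .ofNat 1, .negSucc 0, .ofNat 0, .ofNat 0], [.ofNat 1, .negSucc 0, .ofNat 0, .ofNat 1, .negSucc 0, .ofNat 0, .ofNat 0, .ofNat 0], [.ofNat 0, .negSucc 0, .negSucc 0, .ofNat 1, .ofNat 0, .ofNat 1, .negSucc 0, .ofNat 0], [.ofNat 0, .ofNat 0, .ofNat 0, .negSucc 0, .ofNat 1, .ofNat 0, .ofNat 1, .negSucc 0], [.ofNat 0, .ofNat 0, .ofNat 0, .ofNat 0, .negSucc 0, .ofNat 1, .ofNat 0, .ofNat 1]],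
   [[.negSucc 0, .negSucc 0, .ofNat 1, .ofNat 1, .negSucc 0, .ofNat 0, .ofNat 0, .ofNat 0], [.ofNat 0, .negSucc 0, .negSucc 0, .ofNat 1, .ofNat 1, .negSucc 0, .ofNat 0, .ofNat 0], [.ofNat 0, .ofNat 1, .negSucc 0, .ofNat 1, .negSucc 0, .ofNat 0, .ofNat 0, .ofNat 0], [.ofNat 1, .ofNat 0, .ofNat 1, .negSucc 0, .ofNat 0, .ofNat 0, .ofNat 0, .ofNat 0], [.ofNat 0, .ofNat 0, .ofNat 0, .negSucc 0, .ofNat 1, .ofNat 1, .negSucc 0, .ofNat 0], [.ofNat 0, .ofNat 0, .ofNat 0, .ofNat 0, .negSucc 0, .ofNat 1, .ofNat 1, .negSucc 0], [.ofNat 0, .ofNat 0, .ofNat 0, .ofNat 0, .ofNat 0, .negSucc 0, .ofNat 1, .ofNat 1]],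
   [[.ofNat 0, .negSucc 0, .negSucc 0, .ofNat 2, .negSucc 0, .ofNat 0, .ofNat 0, .ofNat 0], [.negSucc 0, .ofNat 0, .ofNat 2, .negSucc 0, .ofNat 0, .ofNat 0, .ofNat 0, .ofNat 0], [.ofNat 0, .ofNat 0, .ofNat 0, .negSucc 0, .ofNat 2, .negSucc 0, .ofNat 0, .ofNat 0], [.ofNat 0, .ofNat 2, .ofNat 0, .negSucc 0, .ofNat 0, .ofNat 0, .ofNat 0, .ofNat 0], [.ofNat 2, .ofNat 0, .negSucc 0, .ofNat 0, .ofNat 0, .ofNat 0, .ofNat 0, .ofNat 0], [.ofNat 0, .ofNat 0, .ofNat 0, .ofNat 0, .negSucc 0, .ofNat 2, .negSucc 0, .ofNat 0], [.ofNat 0, .ofNat 0, .ofNat 0, .ofNat 0, .ofNat 0, .negSucc 0, .ofNat 2, .negSucc 0], [.ofNat 0, .ofNat 0, .ofNat 0, .ofNat 0, .ofNat 0, .ofNat 0, .negSucc 0, .ofNat 2]],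
   [[.ofNat 0, .ofNat 1, .ofNat 1, .negSucc 1, .ofNat 1, .ofNat 0, .ofNat 0, .ofNat 0], [.ofNat 1, .ofNat 0, .negSucc 1, .ofNat 1, .ofNat 0, .ofNat 0, .ofNat 0, .ofNat 0], [.ofNat 0, .ofNat 0, .ofNat 0, .ofNat 1, .negSucc 1, .ofNat 1, .ofNat 0, .ofNat 0], [.ofNat 0, .negSucc 1, .ofNat 0, .ofNat 1, .ofNat 0, .ofNat 0, .ofNat 0, .ofNat 0], [.negSucc 1, .ofNat 0, .ofNat 1, .ofNat 0, .ofNat 0, .ofNat 0, .ofNat 0, .ofNat 0], [.ofNat 0, .ofNat 0, .ofNat 0, .ofNat 0, .ofNat 1, .negSucc 1, .ofNat 1, .ofNat 0], [.ofNat 0, .ofNat 0, .ofNat 0, .ofNat 0, .ofNat 0, .ofNat 1, .negSucc 1, .ofNat 1], [.ofNat 0, .ofNat 0, .ofNat 0, .ofNat 0, .ofNat 0, .ofNat 0, .ofNat 1, .negSucc 1]],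
   [[.ofNat 0, .negSucc 0, .ofNat 1, .negSucc 0, .ofNat 1, .ofNat 0, .ofNat 0, .ofNat 0], [.ofNat 0, .ofNat 1, .ofNat 1, .negSucc 0, .negSucc 0, .ofNat 1, .ofNat 0, .ofNat 0], [.ofNat 1, .ofNat 1, .negSucc 0, .negSucc 0, .ofNat 1, .ofNat 0, .ofNat 0, .ofNat 0], [.negSucc 0, .ofNat 0, .negSucc 0, .ofNat 1, .ofNat 0, .ofNat 0, .ofNat 0, .ofNat 0], [.ofNat 0, .ofNat 0, .ofNat 0, .ofNat 1, .negSucc 0, .negSucc 0, .ofNat 1, .ofNat 0], [.ofNat 0, .ofNat 0, .ofNat 0, .ofNat 0, .ofNat 1, .negSucc 0, .negSucc 0, .ofNat 1], [.ofNat 0, .ofNat 0, .ofNat 0, .ofNat 0, .ofNat 0, .ofNat 1, .negSucc 0, .negSucc 0]],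
   [[.ofNat 0, .negSucc 0, .ofNat 1, .ofNat 0, .negSucc 0, .ofNat 1, .ofNat 0, .ofNat 0], [.ofNat 1, .negSucc 0, .negSucc 0, .ofNat 0, .ofNat 1, .ofNat 0, .ofNat 0, .ofNat 0], [.ofNat 0, .ofNat 1, .ofNat 1, .negSucc 0, .ofNat 0, .negSucc 0, .ofNat 1, .ofNat 0], [.ofNat 1, .ofNat 1, .negSucc 0, .ofNat 0, .negSucc 0, .ofNat 1, .ofNat 0, .ofNat 0], [.negSucc 0, .ofNat 1, .ofNat 0, .negSucc 0, .ofNat 1, .ofNat 0, .ofNat 0, .ofNat 0], [.ofNat 0, .ofNat 0, .ofNat 0, .ofNat 1, .negSucc 0, .ofNat 0, .negSucc 0, .ofNat 1], [.ofNat 0, .ofNat 0, .ofNat 0, .ofNat 0, .ofNat 1, .negSucc 0, .ofNat 0, .negSucc 0]],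
   [[.ofNat 0, .negSucc 0, .ofNat 1, .ofNat 0, .ofNat 0, .negSucc 0, .ofNat 1, .ofNat 0], [.ofNat 1, .negSucc 0, .negSucc 0, .ofNat 1, .negSucc 0, .ofNat 1, .ofNat 0, .ofNat 0], [.negSucc 0, .negSucc 0, .ofNat 0, .ofNat 0, .ofNat 1, .ofNat 0, .ofNat 0, .ofNat 0], [.ofNat 0, .ofNat 1, .ofNat 1, .negSucc 0, .ofNat 0, .ofNat 0, .negSucc 0, .ofNat 1], [.ofNat 1, .ofNat 1, .negSucc 0, .ofNat 0, .ofNat 0, .negSucc 0, .ofNat 1, .ofNat 0], [.negSucc 0, .ofNat 1, .ofNat 0, .ofNat 0, .negSucc 0, .ofNat 1, .ofNat 0, .ofNat 0], [.ofNat 0, .ofNat 0, .ofNat 0, .ofNat 1, .negSucc 0, .ofNat 0, .ofNat 0, .negSucc 0]],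
   [[.ofNat 0, .negSucc 0, .ofNat 1, .ofNat 0, .ofNat 0, .ofNat 0, .negSucc 0, .ofNat 1], [.ofNat 1, .negSucc 0, .negSucc 0, .ofNat 1, .ofNat 0, .negSucc 0, .ofNat 1, .ofNat 0], [.negSucc 0, .negSucc 0, .ofNat 0, .ofNat 1, .negSucc 0, .ofNat 1, .ofNat 0, .ofNat 0], [.ofNat 1, .ofNat 0, .ofNat 0, .negSucc 0, .ofNat 0, .ofNat 1, .ofNat 0, .ofNat 0], [.ofNat 0, .ofNat 1, .ofNat 1, .negSucc 0, .ofNat 0, .ofNat 0, .ofNat 0, .negSucc 0], [.ofNat 1, .ofNat 1, .negSucc 0, .ofNat 0, .ofNat 0, .ofNat 0, .negSucc 0, .ofNat 1], [.negSucc 0, .ofNat 1, .ofNat 0, .ofNat 0, .ofNat 0, .negSucc 0, .ofNat 1, .ofNat 0]],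
   [[.ofNat 0, .negSucc 0, .ofNat 1, .ofNat 0, .ofNat 0, .ofNat 0, .ofNat 0, .negSucc 0], [.ofNat 1, .negSucc 0, .negSucc 0, .ofNat 1, .ofNat 0, .ofNat 0, .negSucc 0, .ofNat 1], [.negSucc 0, .negSucc 0, .ofNat 0, .ofNat 1, .ofNat 0, .negSucc 0, .ofNat 1, .ofNat 0], [.ofNat 1, .ofNat 0, .ofNat 0, .negSucc 0, .ofNat 1, .negSucc 0, .ofNat 1, .ofNat 0], [.negSucc 0, .ofNat 0, .ofNat 1, .negSucc 0, .ofNat 0, .ofNat 1, .ofNat 0, .ofNat 0], [.ofNat 1, .ofNat 1, .negSucc 0, .ofNat 0, .ofNat 0, .ofNat 0, .ofNat 0, .negSucc 0], [.negSucc 0, .ofNat 1, .ofNat 0, .ofNat 0, .ofNat 0, .ofNat 0, .negSucc 0, .ofNat 1]],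
   [[.ofNat 1, .negSucc 0, .negSucc 0, .ofNat 1, .ofNat 0, .ofNat 0, .ofNat 0, .negSucc 0], [.negSucc 0, .negSucc 0, .ofNat 0, .ofNat 1, .ofNat 0, .ofNat 0, .negSucc 0, .ofNat 1], [.ofNat 1, .ofNat 0, .ofNat 0, .negSucc 0, .ofNat 1, .ofNat 0, .negSucc 0, .ofNat 1], [.negSucc 0, .ofNat 0, .ofNat 1, .negSucc 0, .ofNat 1, .negSucc 0, .ofNat 1, .ofNat 0], [.ofNat 1, .ofNat 0, .ofNat 0, .ofNat 0, .negSucc 0, .ofNat 0, .ofNat 1, .ofNat 0], [.ofNat 0, .ofNat 0, .negSucc 0, .ofNat 0, .ofNat 0, .ofNat 1, .ofNat 0, .ofNat 0], [.negSucc 0, .ofNat 1, .ofNat 0, .ofNat 0, .ofNat 0, .ofNat 0, .ofNat 0, .negSucc 0]],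
   [[.negSucc 0, .negSucc 0, .ofNat 0, .ofNat 1, .ofNat 0, .ofNat 0, .ofNat 0, .negSucc 0], [.ofNat 1, .ofNat 0, .ofNat 0, .negSucc 0, .ofNat 1, .ofNat 0, .ofNat 0, .negSucc 0], [.negSucc 0, .ofNat 0, .ofNat 1, .negSucc 0, .ofNat 1, .ofNat 0, .negSucc 0, .ofNat 1], [.ofNat 1, .ofNat 0, .ofNat 0, .ofNat 0, .negSucc 0, .ofNat 1, .negSucc 0, .ofNat 1], [.negSucc 0, .ofNat 0, .ofNat 1, .ofNat 0, .negSucc 0, .ofNat 0, .ofNat 1, .ofNat 0], [.ofNat 0, .ofNat 0, .negSucc 0, .ofNat 0, .ofNat 1, .negSucc 0, .ofNat 1, .ofNat 0]],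
   [[.negSucc 0, .ofNat 0, .ofNat 1, .negSucc 0, .ofNat 1, .ofNat 0, .ofNat 0, .negSucc 0], [.ofNat 1, .ofNat 0, .ofNat 0, .ofNat 0, .negSucc 0, .ofNat 1, .ofNat 0, .negSucc 0], [.negSucc 0, .ofNat 0, .ofNat 1, .ofNat 0, .negSucc 0, .ofNat 1, .negSucc 0, .ofNat 1], [.ofNat 0, .ofNat 0, .negSucc 0, .ofNat 0, .ofNat 1, .ofNat 0, .negSucc 0, .ofNat 1], [.ofNat 1, .ofNat 0, .ofNat 0, .ofNat 0, .ofNat 0, .negSucc 0, .ofNat 0, .ofNat 1], [.ofNat 0, .ofNat 0, .negSucc 0, .ofNat 1, .negSucc 0, .ofNat 0, .ofNat 1, .ofNat 0]],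
   [[.negSucc 0, .ofNat 0, .ofNat 1, .ofNat 0, .negSucc 0, .ofNat 1, .ofNat 0, .negSucc 0], [.ofNat 0, .ofNat 0, .negSucc 0, .ofNat 0, .ofNat 1, .ofNat 0, .ofNat 0, .negSucc 0], [.ofNat 1, .ofNat 0, .ofNat 0, .ofNat 0, .ofNat 0, .negSucc 0, .ofNat 1, .negSucc 0], [.negSucc 0, .ofNat 0, .ofNat 1, .ofNat 0, .ofNat 0, .negSucc 0, .ofNat 0, .ofNat 1], [.ofNat 0, .ofNat 0, .negSucc 0, .ofNat 1, .negSucc 0, .ofNat 1, .negSucc 0, .ofNat 1], [.ofNat 0, .ofNat 1, .ofNat 0, .negSucc 0, .ofNat 0, .ofNat 0, .ofNat 1, .ofNat 0]],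
   [[.negSucc 0, .ofNat 0, .ofNat 1, .ofNat 0, .ofNat 0, .negSucc 0, .ofNat 1, .negSucc 0], [.ofNat 0, .ofNat 0, .negSucc 0, .ofNat 1, .negSucc 0, .ofNat 1, .ofNat 0, .negSucc 0], [.ofNat 1, .ofNat 0, .ofNat 0, .ofNat 0, .ofNat 0, .ofNat 0, .negSucc 0, .ofNat 0], [.ofNat 0, .ofNat 0, .negSucc 0, .ofNat 1, .ofNat 0, .negSucc 0, .ofNat 0, .ofNat 1], [.ofNat 0, .ofNat 1, .ofNat 0, .negSucc 0, .ofNat 0, .ofNat 1, .negSucc 0, .ofNat 1], [.ofNat 0, .negSucc 0, .ofNat 0, .ofNat 0, .ofNat 0, .ofNat 0, .ofNat 1, .ofNat 0]],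
   [[.negSucc 0, .ofNat 0, .ofNat 1, .ofNat 0, .ofNat 0, .ofNat 0, .negSucc 0, .ofNat 0], [.ofNat 0, .ofNat 0, .negSucc 0, .ofNat 1, .ofNat 0, .negSucc 0, .ofNat 1, .negSucc 0], [.ofNat 0, .ofNat 1, .ofNat 0, .negSucc 0, .ofNat 0, .ofNat 1, .ofNat 0, .negSucc 0], [.ofNat 0, .ofNat 1, .ofNat 0, .negSucc 0, .ofNat 1, .negSucc 0, .ofNat 0, .ofNat 1], [.ofNat 0, .negSucc 0, .ofNat 0, .ofNat 0, .ofNat 0, .ofNat 1, .negSucc 0, .ofNat 1]],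
   [[.ofNat 0, .ofNat 0, .negSucc 0, .ofNat 1, .ofNat 0, .ofNat 0, .negSucc 0, .ofNat 0], [.ofNat 0, .ofNat 1, .ofNat 0, .negSucc 0, .ofNat 1, .negSucc 0, .ofNat 1, .negSucc 0], [.ofNat 0, .negSucc 0, .ofNat 0, .ofNat 0, .ofNat 0, .ofNat 1, .ofNat 0, .negSucc 0], [.ofNat 0, .negSucc 0, .ofNat 0, .ofNat 0, .ofNat 1, .negSucc 0, .ofNat 0, .ofNat 1], [.ofNat 0, .ofNat 1, .ofNat 0, .ofNat 0, .negSucc 0, .ofNat 0, .ofNat 0, .ofNat 1]],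
   [[.ofNat 0, .ofNat 1, .ofNat 0, .negSucc 0, .ofNat 1, .ofNat 0, .negSucc 0, .ofNat 0], [.ofNat 0, .negSucc 0, .ofNat 0, .ofNat 0, .ofNat 1, .negSucc 0, .ofNat 1, .negSucc 0], [.ofNat 0, .ofNat 1, .ofNat 0, .ofNat 0, .negSucc 0, .ofNat 0, .ofNat 1, .negSucc 0], [.ofNat 0, .negSucc 0, .ofNat 0, .ofNat 1, .negSucc 0, .ofNat 0, .ofNat 0, .ofNat 1]],
   [[.ofNat 0, .negSucc 0, .ofNat 0, .ofNat 0, .ofNat 1, .ofNat 0, .negSucc 0, .ofNat 0], [.ofNat 0, .ofNat 1, .ofNat 0, .ofNat 0, .negSucc 0, .ofNat 1, .negSucc 0, .ofNat 0], [.ofNat 0, .negSucc 0, .ofNat 0, .ofNat 1, .negSucc 0, .ofNat 0, .ofNat 1, .negSucc 0], [.ofNat 0, .ofNat 0, .ofNat 1, .negSucc 0, .ofNat 0, .ofNat 0, .ofNat 0, .ofNat 1]],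
   [[.ofNat 0, .negSucc 0, .ofNat 0, .ofNat 1, .negSucc 0, .ofNat 1, .negSucc 0, .ofNat 0], [.ofNat 0, .ofNat 1, .ofNat 0, .ofNat 0, .ofNat 0, .negSucc 0, .ofNat 0, .ofNat 0], [.ofNat 0, .ofNat 0, .ofNat 1, .negSucc 0, .ofNat 0, .ofNat 0, .ofNat 1, .negSucc 0], [.ofNat 1, .ofNat 0, .negSucc 0, .ofNat 0, .ofNat 0, .ofNat 0, .ofNat 0, .ofNat 1]],
   [[.ofNat 0, .negSucc 0, .ofNat 0, .ofNat 1, .ofNat 0, .negSucc 0, .ofNat 0, .ofNat 0], [.ofNat 0, .ofNat 0, .ofNat 1, .negSucc 0, .ofNat 0, .ofNat 1, .negSucc 0, .ofNat 0], [.ofNat 1, .ofNat 0, .negSucc 0, .ofNat 0, .ofNat 0, .ofNat 0, .ofNat 1, .negSucc 0], [.negSucc 0, .ofNat 0, .ofNat 0, .ofNat 0, .ofNat 0, .ofNat 0, .ofNat 0, .ofNat 1]],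
   [[.ofNat 0, .ofNat 0, .ofNat 1, .negSucc 0, .ofNat 1, .negSucc 0, .ofNat 0, .ofNat 0], [.ofNat 1, .ofNat 0, .negSucc 0, .ofNat 0, .ofNat 0, .ofNat 1, .negSucc 0, .ofNat 0], [.negSucc 0, .ofNat 0, .ofNat 0, .ofNat 0, .ofNat 0, .ofNat 0, .ofNat 1, .negSucc 0]],
   [[.ofNat 0, .ofNat 0, .ofNat 1, .ofNat 0, .negSucc 0, .ofNat 0, .ofNat 0, .ofNat 0], [.ofNat 1, .ofNat 0, .negSucc 0, .ofNat 0, .ofNat 1, .negSucc 0, .ofNat 0, .ofNat 0], [.negSucc 0, .ofNat 0, .ofNat 0, .ofNat 0, .ofNat 0, .ofNat 1, .negSucc 0, .ofNat 0]],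
   [[.ofNat 1, .ofNat 0, .negSucc 0, .ofNat 1, .negSucc 0, .ofNat 0, .ofNat 0, .ofNat 0], [.negSucc 0, .ofNat 0, .ofNat 0, .ofNat 0, .ofNat 1, .negSucc 0, .ofNat 0, .ofNat 0]],
   [[.negSucc 0, .ofNat 0, .ofNat 0, .ofNat 1, .negSucc 0, .ofNat 0, .ofNat 0, .ofNat 0], [.ofNat 1, .ofNat 1, .ofNat 0, .negSucc 0, .ofNat 0, .ofNat 0, .ofNat 0, .ofNat 0]],
   [[.negSucc 0, .ofNat 1, .ofNat 1, .negSucc 0, .ofNat 0, .ofNat 0, .ofNat 0, .ofNat 0], [.ofNat 1, .negSucc 0, .ofNat 0, .ofNat 0, .ofNat 0, .ofNat 0, .ofNat 0, .ofNat 0]],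
   [[.negSucc 0, .negSucc 0, .ofNat 1, .ofNat 0, .ofNat 0, .ofNat 0, .ofNat 0, .ofNat 0], [.ofNat 0, .ofNat 1, .negSucc 0, .ofNat 0, .ofNat 0, .ofNat 0, .ofNat 0, .ofNat 0]],
   [[.ofNat 0, .negSucc 0, .negSucc 0, .ofNat 1, .ofNat 0, .ofNat 0, .ofNat 0, .ofNat 0]],
   [[.ofNat 0, .ofNat 0, .ofNat 0, .negSucc 0, .ofNat 1, .ofNat 0, .ofNat 0, .ofNat 0]],
   [[.ofNat 0, .ofNat 0, .ofNat 0, .ofNat 0, .negSucc 0, .ofNat 1, .ofNat 0, .ofNat 0]],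
   [[.ofNat 0, .ofNat 0, .ofNat 0, .ofNat 0, .ofNat 0, .negSucc 0, .ofNat 1, .ofNat 0]],
   [[.ofNat 0, .ofNat 0, .ofNat 0, .ofNat 0, .ofNat 0, .ofNat 0, .negSucc 0, .ofNat 1]],
   [[.ofNat 0, .ofNat 0, .ofNat 0, .ofNat 0, .ofNat 0, .ofNat 0, .ofNat 0, .negSucc 0]]]

theorem layE8_8_ok : stepOK cmE8 chevE8.rank [6, 5, 0, 1, 4, 2, 3] 7 layE8_8 = true := by decide +kernel

theorem layE8_8_len : layE8_8.map List.length = [1, 1, 1, 1, 1, 1, 2, 2, 2, 2, 3, 3, 4, 4, 4, 4, 5, 5, 6, 6, 6, 6, 7, 7, 7, 7, 7, 7, 8, 8, 7, 7, 7, 7, 7, 7, 6, 6, 6, 6, 5, 5, 4, 4, 4, 4, 3, 3, 2, 2, 2, 2, 1, 1, 1, 1, 1, 1] := by decide +kernel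

theorem poin_E8 (hD : chevE8 ∈ stdList) {S : Type*} [CommSemiring S] (q : S) :
    (RD hD).poin Set.univ q = qInt q 2 * qInt q 8 * qInt q 12 * qInt q 14 * qInt q 18 * qInt q 20 * qInt q 24 * qInt q 30 := by
  rw [← set_full chevE8.rank [7, 6, 5, 0, 1, 4, 2, 3] (by decide +kernel),
    poin_step (RD hD) cmE8 (RD_A_E8 hD) [6, 5, 0, 1, 4, 2, 3] 7 layE8_8 layE8_8_ok, layE8_8_len,
    poin_step (RD hD) cmE8 (RD_A_E8 hD) [5, 0, 1, 4, 2, 3] 6 layE8_7 layE8_7_ok, layE8_7_len,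
    poin_step (RD hD) cmE8 (RD_A_E8 hD) [0, 1, 4, 2, 3] 5 layE8_6 layE8_6_ok, layE8_6_len,
    poin_step (RD hD) cmE8 (RD_A_E8 hD) [1, 4, 2, 3] 0 layE8_5 layE8_5_ok, layE8_5_len,
    poin_step (RD hD) cmE8 (RD_A_E8 hD) [4, 2, 3] 1 layE8_4 layE8_4_ok, layE8_4_len,
    poin_step (RD hD) cmE8 (RD_A_E8 hD) [2, 3] 4 layE8_3 layE8_3_ok, layE8_3_len,
    poin_step (RD hD) cmE8 (RD_A_E8 hD) [3] 2 layE8_2 layE8_2_ok, layE8_2_len,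
    poin_step (RD hD) cmE8 (RD_A_E8 hD) [] 3 layE8_1 layE8_1_ok, layE8_1_len,
    set_nil, RootData.poin_empty]
  simp only [polyOf_cons, polyOf_nil, qInt, Finset.sum_range_succ, Finset.sum_range_zero]
  push_cast
  ring

end Cfsg.Agent.H39
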