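import Cfsg.Prelude.Def_E6
import Cfsg.Agent.H38.FrameE

/-! The cubic form in 27 variables: the adjoint and its basic identities. -/

set_option autoImplicit false

namespace Cfsg.Agent.H39.E6

open Cfsg.Lie H38 Matrix

/-- The index set. -/
abbrev I := I27

theorem forall_I {P : I → Prop} : (∀ k, P k) ↔ ∀ a b c, P (a, b, c) := by simp

theorem forall_three {P : Fin 3 → Prop} : (∀ k, P k) ↔ P 0 ∧ P 1 ∧ P 2 := by simp [Fin.forall_fin_succ]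

/-- The monomials containing a given variable. -/
def prs : I → List (ℤ × I × I)
  | (0, 0, 0) => [(1, (0, 1, 1), (0, 2, 2)), (-1, (0, 1, 2), (0, 2, 1)), (-1, (1, 0, 0), (2, 0, 0)), (-1, (1, 0, 1), (2, 1, 0)), (-1, (1, 0, 2), (2, 2, 0))]
  | (0, 0, 1) => [(-1, (0, 1, 0), (0, 2, 2)), (1, (0, 1, 2), (0, 2, 0)), (-1, (1, 1, 0), (2, 0, 0)), (-1, (1, 1, 1), (2, 1, 0)), (-1, (1, 1, 2), (2, 2, 0))]
  | (0, 0, 2) => [(1, (0, 1, 0), (0, 2, 1)), (-1, (0, 1, 1), (0, 2, 0)), (-1, (1, 2, 0), (2, 0, 0)), (-1, (1, 2, 1), (2, 1, 0)), (-1, (1, 2, 2), (2, 2, 0))]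
  | (0, 1, 0) => [(-1, (0, 0, 1), (0, 2, 2)), (1, (0, 0, 2), (0, 2, 1)), (-1, (1, 0, 0), (2, 0, 1)), (-1, (1, 0, 1), (2, 1, 1)), (-1, (1, 0, 2), (2, 2, 1))]
  | (0, 1, 1) => [(1, (0, 0, 0), (0, 2, 2)), (-1, (0, 0, 2), (0, 2, 0)), (-1, (1, 1, 0), (2, 0, 1)), (-1, (1, 1, 1), (2, 1, 1)), (-1, (1, 1, 2), (2, 2, 1))]
  | (0, 1, 2) => [(-1, (0, 0, 0), (0, 2, 1)), (1, (0, 0, 1), (0, 2, 0)), (-1, (1, 2, 0), (2, 0, 1)), (-1, (1, 2, 1), (2, 1, 1)), (-1, (1, 2, 2), (2, 2, 1))]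
  | (0, 2, 0) => [(1, (0, 0, 1), (0, 1, 2)), (-1, (0, 0, 2), (0, 1, 1)), (-1, (1, 0, 0), (2, 0, 2)), (-1, (1, 0, 1), (2, 1, 2)), (-1, (1, 0, 2), (2, 2, 2))]
  | (0, 2, 1) => [(-1, (0, 0, 0), (0, 1, 2)), (1, (0, 0, 2), (0, 1, 0)), (-1, (1, 1, 0), (2, 0, 2)), (-1, (1, 1, 1), (2, 1, 2)), (-1, (1, 1, 2), (2, 2, 2))]
  | (0, 2, 2) => [(1, (0, 0, 0), (0, 1, 1)), (-1, (0, 0, 1), (0, 1, 0)), (-1, (1, 2, 0), (2, 0, 2)), (-1, (1, 2, 1), (2, 1, 2)), (-1, (1, 2, 2), (2, 2, 2))]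
  | (1, 0, 0) => [(1, (1, 1, 1), (1, 2, 2)), (-1, (1, 1, 2), (1, 2, 1)), (-1, (0, 0, 0), (2, 0, 0)), (-1, (0, 1, 0), (2, 0, 1)), (-1, (0, 2, 0), (2, 0, 2))]
  | (1, 0, 1) => [(-1, (1, 1, 0), (1, 2, 2)), (1, (1, 1, 2), (1, 2, 0)), (-1, (0, 0, 0), (2, 1, 0)), (-1, (0, 1, 0), (2, 1, 1)), (-1, (0, 2, 0), (2, 1, 2))]
  | (1, 0, 2) => [(1, (1, 1, 0), (1, 2, 1)), (-1, (1, 1, 1), (1, 2, 0)), (-1, (0, 0, 0), (2, 2, 0)), (-1, (0, 1, 0), (2, 2, 1)), (-1, (0, 2, 0), (2, 2, 2))]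
  | (1, 1, 0) => [(-1, (1, 0, 1), (1, 2, 2)), (1, (1, 0, 2), (1, 2, 1)), (-1, (0, 0, 1), (2, 0, 0)), (-1, (0, 1, 1), (2, 0, 1)), (-1, (0, 2, 1), (2, 0, 2))]
  | (1, 1, 1) => [(1, (1, 0, 0), (1, 2, 2)), (-1, (1, 0, 2), (1, 2, 0)), (-1, (0, 0, 1), (2, 1, 0)), (-1, (0, 1, 1), (2, 1, 1)), (-1, (0, 2, 1), (2, 1, 2))]
  | (1, 1, 2) => [(-1, (1, 0, 0), (1, 2, 1)), (1, (1, 0, 1), (1, 2, 0)), (-1, (0, 0, 1), (2, 2, 0)), (-1, (0, 1, 1), (2, 2, 1)), (-1, (0, 2, 1), (2, 2, 2))]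
  | (1, 2, 0) => [(1, (1, 0, 1), (1, 1, 2)), (-1, (1, 0, 2), (1, 1, 1)), (-1, (0, 0, 2), (2, 0, 0)), (-1, (0, 1, 2), (2, 0, 1)), (-1, (0, 2, 2), (2, 0, 2))]
  | (1, 2, 1) => [(-1, (1, 0, 0), (1, 1, 2)), (1, (1, 0, 2), (1, 1, 0)), (-1, (0, 0, 2), (2, 1, 0)), (-1, (0, 1, 2), (2, 1, 1)), (-1, (0, 2, 2), (2, 1, 2))]
  | (1, 2, 2) => [(1, (1, 0, 0), (1, 1, 1)), (-1, (1, 0, 1), (1, 1, 0)), (-1, (0, 0, 2), (2, 2, 0)), (-1, (0, 1, 2), (2, 2, 1)), (-1, (0, 2, 2), (2, 2, 2))]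
  | (2, 0, 0) => [(1, (2, 1, 1), (2, 2, 2)), (-1, (2, 1, 2), (2, 2, 1)), (-1, (0, 0, 0), (1, 0, 0)), (-1, (0, 0, 1), (1, 1, 0)), (-1, (0, 0, 2), (1, 2, 0))]
  | (2, 0, 1) => [(-1, (2, 1, 0), (2, 2, 2)), (1, (2, 1, 2), (2, 2, 0)), (-1, (0, 1, 0), (1, 0, 0)), (-1, (0, 1, 1), (1, 1, 0)), (-1, (0, 1, 2), (1, 2, 0))]
  | (2, 0, 2) => [(1, (2, 1, 0), (2, 2, 1)), (-1, (2, 1, 1), (2, 2, 0)), (-1, (0, 2, 0), (1, 0, 0)), (-1, (0, 2, 1), (1, 1, 0)), (-1, (0, 2, 2), (1, 2, 0))]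
  | (2, 1, 0) => [(-1, (2, 0, 1), (2, 2, 2)), (1, (2, 0, 2), (2, 2, 1)), (-1, (0, 0, 0), (1, 0, 1)), (-1, (0, 0, 1), (1, 1, 1)), (-1, (0, 0, 2), (1, 2, 1))]
  | (2, 1, 1) => [(1, (2, 0, 0), (2, 2, 2)), (-1, (2, 0, 2), (2, 2, 0)), (-1, (0, 1, 0), (1, 0, 1)), (-1, (0, 1, 1), (1, 1, 1)), (-1, (0, 1, 2), (1, 2, 1))]
  | (2, 1, 2) => [(-1, (2, 0, 0), (2, 2, 1)), (1, (2, 0, 1), (2, 2, 0)), (-1, (0, 2, 0), (1, 0, 1)), (-1, (0, 2, 1), (1, 1, 1)), (-1, (0, 2, 2), (1, 2, 1))]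
  | (2, 2, 0) => [(1, (2, 0, 1), (2, 1, 2)), (-1, (2, 0, 2), (2, 1, 1)), (-1, (0, 0, 0), (1, 0, 2)), (-1, (0, 0, 1), (1, 1, 2)), (-1, (0, 0, 2), (1, 2, 2))]
  | (2, 2, 1) => [(-1, (2, 0, 0), (2, 1, 2)), (1, (2, 0, 2), (2, 1, 0)), (-1, (0, 1, 0), (1, 0, 2)), (-1, (0, 1, 1), (1, 1, 2)), (-1, (0, 1, 2), (1, 2, 2))]
  | (2, 2, 2) => [(1, (2, 0, 0), (2, 1, 1)), (-1, (2, 0, 1), (2, 1, 0)), (-1, (0, 2, 0), (1, 0, 2)), (-1, (0, 2, 1), (1, 1, 2)), (-1, (0, 2, 2), (1, 2, 2))]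

section ring

variable {R S : Type*} [CommRing R] [CommRing S]

theorem cubicT_eq (v : I → R) : cubicT v =
    v (0, 0, 0) * v (0, 1, 1) * v (0, 2, 2) - v (0, 0, 0) * v (0, 1, 2) * v (0, 2, 1) - v (0, 0, 1) * v (0, 1, 0)
    * v (0, 2, 2) + v (0, 0, 1) * v (0, 1, 2) * v (0, 2, 0) + v (0, 0, 2) * v (0, 1, 0) * v (0, 2, 1) - v
    (0, 0, 2) * v (0, 1, 1) * v (0, 2, 0) + v (1, 0, 0) * v (1, 1, 1) * v (1, 2, 2) - v (1, 0, 0) * v (1, 1, 2) *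
    v (1, 2, 1) - v (1, 0, 1) * v (1, 1, 0) * v (1, 2, 2) + v (1, 0, 1) * v (1, 1, 2) * v (1, 2, 0) + v (1, 0, 2)
    * v (1, 1, 0) * v (1, 2, 1) - v (1, 0, 2) * v (1, 1, 1) * v (1, 2, 0) + v (2, 0, 0) * v (2, 1, 1) * v
    (2, 2, 2) - v (2, 0, 0) * v (2, 1, 2) * v (2, 2, 1) - v (2, 0, 1) * v (2, 1, 0) * v (2, 2, 2) + v (2, 0, 1) *
    v (2, 1, 2) * v (2, 2, 0) + v (2, 0, 2) * v (2, 1, 0) * v (2, 2, 1) - v (2, 0, 2) * v (2, 1, 1) * v (2, 2, 0)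
    - v (0, 0, 0) * v (1, 0, 0) * v (2, 0, 0) - v (0, 0, 0) * v (1, 0, 1) * v (2, 1, 0) - v (0, 0, 0) * v
    (1, 0, 2) * v (2, 2, 0) - v (0, 0, 1) * v (1, 1, 0) * v (2, 0, 0) - v (0, 0, 1) * v (1, 1, 1) * v (2, 1, 0) -
    v (0, 0, 1) * v (1, 1, 2) * v (2, 2, 0) - v (0, 0, 2) * v (1, 2, 0) * v (2, 0, 0) - v (0, 0, 2) * v (1, 2, 1)
    * v (2, 1, 0) - v (0, 0, 2) * v (1, 2, 2) * v (2, 2, 0) - v (0, 1, 0) * v (1, 0, 0) * v (2, 0, 1) - v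
    (0, 1, 0) * v (1, 0, 1) * v (2, 1, 1) - v (0, 1, 0) * v (1, 0, 2) * v (2, 2, 1) - v (0, 1, 1) * v (1, 1, 0) *
    v (2, 0, 1) - v (0, 1, 1) * v (1, 1, 1) * v (2, 1, 1) - v (0, 1, 1) * v (1, 1, 2) * v (2, 2, 1) - v (0, 1, 2)
    * v (1, 2, 0) * v (2, 0, 1) - v (0, 1, 2) * v (1, 2, 1) * v (2, 1, 1) - v (0, 1, 2) * v (1, 2, 2) * v
    (2, 2, 1) - v (0, 2, 0) * v (1, 0, 0) * v (2, 0, 2) - v (0, 2, 0) * v (1, 0, 1) * v (2, 1, 2) - v (0, 2, 0) *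
    v (1, 0, 2) * v (2, 2, 2) - v (0, 2, 1) * v (1, 1, 0) * v (2, 0, 2) - v (0, 2, 1) * v (1, 1, 1) * v (2, 1, 2)
    - v (0, 2, 1) * v (1, 1, 2) * v (2, 2, 2) - v (0, 2, 2) * v (1, 2, 0) * v (2, 0, 2) - v (0, 2, 2) * v
    (1, 2, 1) * v (2, 1, 2) - v (0, 2, 2) * v (1, 2, 2) * v (2, 2, 2) := by
  simp only [cubicT, mat3, det_fin_three, trace_fin_three, Matrix.mul_apply, Fin.sum_univ_three, of_apply]
  ring

/-- The adjoint: the gradient of the cubic form. -/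
def sharp (v : I → R) (k : I) : R := ((prs k).map fun p => (p.1 : R) * (v p.2.1 * v p.2.2)).sum

/-- The polarisation of the adjoint. -/
def cross (x y : I → R) (k : I) : R :=
  ((prs k).map fun p => (p.1 : R) * (x p.2.1 * y p.2.2 + y p.2.1 * x p.2.2)).sum

theorem cubicT_add (x y : I → R) : cubicT (x + y) = cubicT x + sharp x ⬝ᵥ y + sharp y ⬝ᵥ x + cubicT y := by
  simp only [cubicT_eq, dotProduct, Fintype.sum_prod_type, Fin.sum_univ_three, sharp, prs, List.map_cons,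
    List.map_nil, List.sum_cons, List.sum_nil, Pi.add_apply, Int.cast_one, Int.cast_neg]
  ring

theorem cubicT_smul (c : R) (x : I → R) : cubicT (c • x) = c ^ 3 * cubicT x := by
  simp only [cubicT_eq, Pi.smul_apply, smul_eq_mul]
  ring

theorem sharp_sharp (x : I → R) : sharp (sharp x) = cubicT x • x := by
  refine funext (forall_I.2 ?_)
  simp only [forall_three, cubicT_eq, sharp, prs, List.map_cons,
    List.map_nil, List.sum_cons, List.sum_nil, Pi.smul_apply, smul_eq_mul, Int.cast_one, Int.cast_neg]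
  refine ⟨⟨⟨?_, ?_, ?_⟩, ⟨?_, ?_, ?_⟩, ?_, ?_, ?_⟩, ⟨⟨?_, ?_, ?_⟩, ⟨?_, ?_, ?_⟩, ?_, ?_, ?_⟩,
    ⟨?_, ?_, ?_⟩, ⟨?_, ?_, ?_⟩, ?_, ?_, ?_⟩ <;> ring

theorem sharp_add (x y : I → R) : sharp (x + y) = sharp x + cross x y + sharp y := by
  ext k
  simp only [sharp, cross, Pi.add_apply, ← List.sum_map_add]
  exact congrArg List.sum (List.map_congr_left fun p _ => by ring)

theorem sharp_smul (c : R) (x : I → R) : sharp (c • x) = (c * c) • sharp x := by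
  ext k
  simp only [sharp, Pi.smul_apply, smul_eq_mul, ← List.sum_map_mul_left]
  exact congrArg List.sum (List.map_congr_left fun p _ => by ring)

theorem cross_smul_left (c : R) (x y : I → R) : cross (c • x) y = c • cross x y := by
  ext k
  simp only [cross, Pi.smul_apply, smul_eq_mul, ← List.sum_map_mul_left]
  exact congrArg List.sum (List.map_congr_left fun p _ => by ring)

theorem cubicT_map (φ : R →+* S) (v : I → R) : cubicT (fun k => φ (v k)) = φ (cubicT v) := by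
  simp only [cubicT_eq, map_add, map_sub, map_mul]

theorem sharp_map (φ : R →+* S) (v : I → R) (k : I) : sharp (fun k => φ (v k)) k = φ (sharp v k) := by
  simp only [sharp, map_list_sum, List.map_map, Function.comp_def, map_mul, map_intCast]

theorem sharp_eq_zero {v : I → R} {k : I} (h : ∀ p ∈ prs k, v p.2.1 = 0 ∨ v p.2.2 = 0) : sharp v k = 0 :=
  List.sum_eq_zero fun x hx => by
    obtain ⟨p, hp, rfl⟩ := List.mem_map.1 hx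
    rcases h p hp with e | e <;> simp [e]

/-- The coefficients of the trilinear form. -/
def cf (k a b : I) : ℤ := ((prs k).map fun p =>
  (if p.2.1 = a ∧ p.2.2 = b then p.1 else 0) + if p.2.2 = a ∧ p.2.1 = b then p.1 else 0).sum

theorem cross_single (a : I) (y : I → R) (k : I) : cross (Pi.single a 1) y k = ∑ b, (cf k a b : R) * y b := by
  unfold cross cf
  induction prs k with
  | nil => simp
  | cons p l ih =>
    simp only [List.map_cons, List.sum_cons, ih, Int.cast_add, add_mul, Finset.sum_add_distrib]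
    congr 1
    by_cases h1 : p.2.1 = a <;> by_cases h2 : p.2.2 = a <;> simp [h1, h2, mul_add]

end ring

/-- Two weights occurring in a common monomial. -/
def far (a b : I) : Bool :=
  if a.1 = b.1 then a.2.1 ≠ b.2.1 ∧ a.2.2 ≠ b.2.2 else if b.1 = a.1 + 1 then a.2.2 = b.2.1 else b.2.2 = a.2.1

/-- Three times the inner product of two weights. -/
def ip (a b : I) : ℤ := if a = b then 4 else if far a b then -2 else 1

theorem ip_self (a : I) : ip a a = 4 := if_pos rfl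

theorem eq_of_ip {a b : I} (h : ip a b = 4) : a = b := by
  by_contra e
  rw [ip, if_neg e] at h
  split_ifs at h
  omega

theorem ip_cases (a b : I) : ip a b = 4 ∨ ip a b = 1 ∨ ip a b = -2 := by
  unfold ip; split_ifs <;> simp

theorem ip_comm : ∀ a b, ip a b = ip b a := by decide +kernel

theorem ip_prs : ∀ e k, ∀ p ∈ prs k, ip e k + ip e p.2.1 + ip e p.2.2 = 0 := by decide +kernel

theorem ip_of_cf : ∀ k a b, cf k a b ≠ 0 → ip a b = -2 := by decide +kernel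

theorem exists_cf : ∀ e z, ip e z = -2 → ∃ k, ip e k = -2 ∧ cf k e z * cf k e z = 1 ∧ ∀ b, b ≠ z → cf k e b = 0 := by
  decide +kernel

/-- The integral basis vectors. -/
def bz (a : I) : I → ℤ := fun b => if b = a then 1 else 0

theorem exists_sharp : ∀ e, ∃ p ∈ prs e, p.1 * p.1 = 1 ∧ cubicT (bz p.2.1 + bz p.2.2) = 0 ∧
    ∀ k, sharp (bz p.2.1 + bz p.2.2) k = if k = e then p.1 else 0 := by
  simp only [cubicT_eq]
  decide +kernel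

theorem exists_nonsing : ∀ e l, ip e l = -2 → ∃ p ∈ prs e,
    cubicT (bz e + bz p.2.1 + bz p.2.2) ^ 2 = 1 ∧
    cubicT (bz e + bz p.2.1 + bz p.2.2 + bz l) ^ 2 = 1 := by
  simp only [cubicT_eq]
  decide +kernel

end Cfsg.Agent.H39.E6
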